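import Cfsg.Agent.Lib.Chev.CoverPerfectDefs
import Cfsg.Agent.Lib.Chev.All

/-! Certificates: every root vanishes in the abelianisation of the Steinberg cover. -/

set_option autoImplicit false
set_option maxRecDepth 100000

namespace Cfsg.Lib.Chev.CoverPerfect

open Cfsg.Lie

theorem certB2 : ∃ L, chk chevB2 true [] L = true :=
  ⟨[(0, 5), (0, 6), (1, 4), (1, 7), (2, 7), (3, 6), (5, 0), (6, 0)], by decide +kernel⟩

theorem certG2 : ∃ L, chk chevG2 true [] L = true :=
  ⟨[(0, 6), (0, 10), (1, 5), (1, 7), (1, 11), (2, 10), (2, 11), (3, 6), (4, 5), (5, 11), (6, 10), (7, 6)], by decide +kernel⟩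

theorem certD4 : ∃ L, chk chevD4 false [] L = true :=
  ⟨[(0, 14), (0, 15), (0, 16), (0, 17), (0, 19), (0, 20), (0, 21), (0, 22), (1, 9), (1, 17), (1, 20), (1, 21), (1, 23), (2, 22), (2, 23), (3, 22), (3, 23), (4, 23), (6, 22), (6, 23), (7, 23), (8, 23), (9, 23), (14, 22)], by decide +kernel⟩

theorem certF4 : ∃ L, chk chevF4 false [] L = true :=
  ⟨[(0, 24), (0, 26), (0, 31), (0, 32), (0, 42), (0, 43), (0, 45), (0, 46), (1, 23), (1, 28), (1, 32), (1, 35), (1, 37), (1, 43), (1, 45), (1, 47), (2, 37), (2, 38), (2, 46), (2, 47), (3, 37), (3, 38), (3, 39), (3, 40), (3, 41), (3, 42), (3, 43), (3, 45), (3, 46), (3, 47), (4, 39), (4, 44), (4, 46), (4, 47), (5, 44), (6, 44), (7, 44), (7, 45), (7, 46), (7, 47), (8, 46), (8, 47), (9, 47), (11, 47), (15, 39), (15, 46), (15, 47), (18, 47)], by decide +kernel⟩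

theorem certE6 : ∃ L, chk chevE6 false [] L = true :=
  ⟨[(0, 46), (0, 47), (0, 48), (0, 49), (0, 50), (0, 51), (0, 52), (0, 53), (0, 54), (0, 55), (0, 61), (0, 62), (0, 63), (0, 64), (0, 65), (0, 66), (0, 67), (0, 68), (0, 69), (0, 70), (1, 25), (1, 53), (1, 54), (1, 55), (1, 64), (1, 65), (1, 66), (1, 67), (1, 68), (1, 69), (1, 71), (2, 55), (2, 66), (2, 67), (2, 68), (2, 70), (2, 71), (3, 67), (3, 69), (3, 70), (3, 71), (4, 68), (4, 69), (4, 70), (4, 71), (5, 55), (5, 69), (5, 70), (5, 71), (6, 70), (6, 71), (7, 70), (7, 71), (8, 71), (9, 71), (10, 71), (16, 66), (16, 69), (16, 70), (16, 71), (17, 70), (17, 71), (18, 70), (18, 71), (19, 71), (20, 71), (21, 71), (22, 71), (23, 71), (24, 71), (25, 71), (46, 70)], by decide +kernel⟩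

theorem certE7 : ∃ L, chk chevE7 false [] L = true :=
  ⟨[(0, 93), (0, 94), (0, 95), (0, 96), (0, 97), (0, 98), (0, 99), (0, 100), (0, 101), (0, 102), (0, 103), (0, 104), (0, 105), (0, 106), (0, 107), (0, 108), (0, 109), (0, 110), (0, 111), (0, 112), (0, 113), (0, 114), (0, 115), (0, 116), (0, 117), (0, 118), (0, 119), (0, 120), (0, 121), (0, 122), (0, 123), (0, 124), (1, 32), (1, 109), (1, 110), (1, 111), (1, 112), (1, 113), (1, 114), (1, 115), (1, 116), (1, 117), (1, 118), (1, 119), (1, 120), (1, 121), (1, 122), (1, 123), (1, 125), (2, 115), (2, 116), (2, 117), (2, 118), (2, 119), (2, 120), (2, 121), (2, 122), (2, 124), (2, 125), (3, 118), (3, 119), (3, 120), (3, 121), (3, 123), (3, 124), (3, 125), (4, 119), (4, 120), (4, 122), (4, 123), (4, 124), (4, 125), (5, 119), (5, 121), (5, 122), (5, 123), (5, 124), (5, 125), (6, 120), (6, 121), (6, 122), (6, 123), (6, 124), (6, 125), (7, 122), (7, 123), (7, 124), (7, 125), (8, 123), (8, 124), (8, 125), (9, 123), (9, 124), (9, 125), (10, 123),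 (10, 124), (10, 125), (11, 124), (11, 125), (12, 124), (12, 125), (13, 124), (13, 125), (14, 124), (14, 125), (15, 124), (15, 125), (16, 124), (16, 125), (17, 125), (18, 125), (19, 125), (20, 125), (21, 125), (22, 125), (23, 125), (24, 125), (25, 125), (26, 125), (27, 125), (28, 125), (29, 125), (30, 125), (31, 125), (32, 125), (93, 124)], by decide +kernel⟩

theorem certE8 : ∃ L, chk chevE8 false [] L = true :=
  ⟨[(0, 120), (0, 122), (0, 125), (0, 129), (0, 134), (0, 140), (0, 146), (0, 151), (0, 155), (0, 158), (0, 160), (0, 161), (0, 168), (0, 173), (0, 177), (0, 180), (0, 182), (0, 183), (0, 187), (0, 190), (0, 192), (0, 193), (0, 196), (0, 198), (0, 199), (0, 201), (0, 202), (0, 203), (0, 206), (0, 208), (0, 209), (0, 211), (0, 212), (0, 213), (0, 215), (0, 216), (0, 217), (0, 218), (0, 220), (0, 221), (0, 222), (0, 223), (0, 224), (0, 225), (0, 227), (0, 228), (0, 229), (0, 230), (0, 231), (0, 232), (0, 233), (0, 234), (0, 235), (0, 236), (0, 237), (0, 238), (1, 119), (1, 161),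 (1, 183), (1, 193), (1, 199), (1, 202), (1, 203), (1, 209), (1, 212), (1, 213), (1, 216), (1, 217), (1, 218), (1, 221), (1, 222), (1, 223), (1, 224), (1, 225), (1, 228), (1, 229), (1, 230), (1, 231), (1, 232), (1, 233), (1, 234), (1, 235), (1, 236), (1, 237), (1, 239), (2, 203), (2, 213), (2, 217), (2, 218), (2, 222), (2, 223), (2, 224), (2, 225), (2, 229), (2, 230), (2, 231), (2, 232), (2, 233), (2, 234), (2, 235), (2, 236), (2, 238), (2, 239), (3, 218), (3, 223), (3, 224), (3, 225), (3, 230), (3, 231), (3, 232), (3, 233), (3, 234), (3, 235), (3, 237), (3, 238), (3, 239), (4, 224), (4, 225), (4, 231), (4, 232), (4, 233), (4, 234), (4, 236), (4, 237), (4, 238), (4, 239), (5, 225), (5, 232), (5, 233), (5, 235), (5, 236), (5, 237), (5, 238), (5, 239), (6, 225), (6, 234), (6, 235), (6, 236), (6, 237), (6, 238), (6, 239), (7, 234), (7, 235), (7, 236), (7, 237), (7, 238), (7, 239), (8, 235), (8, 236), (8, 237), (8, 238), (8, 239), (9, 236), (9, 237), (9, 238), (9, 239), (10, 237), (10, 238),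 (10, 239), (11, 238), (11, 239), (12, 239), (14, 233), (14, 234), (14, 235), (14, 236), (14, 237), (14, 238), (14, 239), (15, 235), (15, 236), (15, 237), (15, 238), (15, 239), (16, 236), (16, 237), (16, 238), (16, 239), (17, 237), (17, 238), (17, 239), (18, 238), (18, 239), (19, 239), (21, 236), (21, 237), (21, 238), (21, 239), (22, 237), (22, 238), (22, 239), (23, 238), (23, 239), (24, 239), (26, 237), (26, 238), (26, 239), (27, 238), (27, 239), (28, 239), (30, 238), (30, 239), (31, 239), (33, 239), (36, 237), (36, 238), (36, 239), (37, 238), (37, 239), (38, 239), (40, 238), (40, 239), (41, 239), (43, 239), (46, 238), (46, 239), (47, 239), (49, 239), (52, 239), (56, 238), (56, 239), (57, 239), (59, 239), (62, 239), (66, 239), (71, 239), (78, 238), (78, 239), (79, 239), (81, 239), (84, 239), (88, 239), (93, 239), (99, 239), (105, 239), (110, 239), (114, 239), (117, 239), (119, 239), (120, 238)], by decide +kernel⟩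

end Cfsg.Lib.Chev.CoverPerfect
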