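/-
Generated data: minimal coset representatives and torus certificates.
-/
import Mathlib

set_option autoImplicit false

namespace Cfsg.Lib.Chev

/-- torus certificate -/
def torG2 : ℕ × List ℕ × List (List ℤ) × List (List ℤ) × List (List ℤ) :=
  (1, [], [], [[2,1],[3,2]], [])

/-- degrees -/
def degG2 : List ℕ := [2,6]

/-- representatives -/
def repsG2_0 : List (List ℕ) :=
  [[],[0]]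

/-- their successors -/
def nextG2_0 : List (List ℕ) :=
  [[1],[0]]

/-- representatives -/
def repsG2_1 : List (List ℕ) :=
  [[],[1],[0,1],[1,0,1],[0,1,0,1],[1,0,1,0,1]]

/-- their successors -/
def nextG2_1 : List (List ℕ) :=
  [[6,1],[2,0],[1,3],[4,2],[3,5],[6,4]]

/-- all steps -/
def stepsG2 : List (List (List ℕ) × List (List ℕ)) :=
  [(repsG2_0, nextG2_0),
    (repsG2_1, nextG2_1)]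

/-- torus certificate -/
def torB2 : ℕ × List ℕ × List (List ℤ) × List (List ℤ) × List (List ℤ) :=
  (2, [0], [[1,0]], [[0,0],[1,1]], [[2,1]])

/-- degrees -/
def degB2 : List ℕ := [2,4]

/-- representatives -/
def repsB2_0 : List (List ℕ) :=
  [[],[0]]

/-- their successors -/
def nextB2_0 : List (List ℕ) :=
  [[1],[0]]

/-- representatives -/
def repsB2_1 : List (List ℕ) :=
  [[],[1],[0,1],[1,0,1]]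

/-- their successors -/
def nextB2_1 : List (List ℕ) :=
  [[4,1],[2,0],[1,3],[4,2]]

/-- all steps -/
def stepsB2 : List (List (List ℕ) × List (List ℕ)) :=
  [(repsB2_0, nextB2_0),
    (repsB2_1, nextB2_1)]

/-- torus certificate -/
def torD4 : ℕ × List ℕ × List (List ℤ) × List (List ℤ) × List (List ℤ) :=
  (2, [0,2], [[1,0,0,1],[0,0,1,1]], [[0,0,0,0],[1,2,1,1],[0,0,0,0],[-1,-1,-1,0]], [[2,2,1,1],[1,2,2,1]])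

/-- degrees -/
def degD4 : List ℕ := [2,4,4,6]

/-- representatives -/
def repsD4_0 : List (List ℕ) :=
  [[],[0]]

/-- their successors -/
def nextD4_0 : List (List ℕ) :=
  [[1],[0]]

/-- representatives -/
def repsD4_1 : List (List ℕ) :=
  [[],[1],[0,1]]

/-- their successors -/
def nextD4_1 : List (List ℕ) :=
  [[3,1],[2,0],[1,3]]

/-- representatives -/
def repsD4_2 : List (List ℕ) :=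
  [[],[2],[1,2],[0,1,2]]

/-- their successors -/
def nextD4_2 : List (List ℕ) :=
  [[4,5,1],[4,2,0],[3,1,5],[2,4,5]]

/-- representatives -/
def repsD4_3 : List (List ℕ) :=
  [[],[3],[1,3],[0,1,3],[2,1,3],[2,0,1,3],[1,2,0,1,3],[3,1,2,0,1,3]]

/-- their successors -/
def nextD4_3 : List (List ℕ) :=
  [[8,9,10,1],[8,2,10,0],[3,1,4,9],[2,8,5,9],[5,10,2,9],[4,6,3,9],[10,5,8,7],[10,9,8,6]]

/-- all steps -/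
def stepsD4 : List (List (List ℕ) × List (List ℕ)) :=
  [(repsD4_0, nextD4_0),
    (repsD4_1, nextD4_1),
    (repsD4_2, nextD4_2),
    (repsD4_3, nextD4_3)]

/-- torus certificate -/
def torF4 : ℕ × List ℕ × List (List ℤ) × List (List ℤ) × List (List ℤ) :=
  (1, [], [], [[2,3,2,1],[3,6,4,2],[4,8,6,3],[2,4,3,2]], [])

/-- degrees -/
def degF4 : List ℕ := [2,6,8,12]

/-- representatives -/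
def repsF4_0 : List (List ℕ) :=
  [[],[0]]

/-- their successors -/
def nextF4_0 : List (List ℕ) :=
  [[1],[0]]

/-- representatives -/
def repsF4_1 : List (List ℕ) :=
  [[],[1],[0,1]]

/-- their successors -/
def nextF4_1 : List (List ℕ) :=
  [[3,1],[2,0],[1,3]]

/-- representatives -/
def repsF4_2 : List (List ℕ) :=
  [[],[2],[1,2],[0,1,2],[2,1,2],[2,0,1,2],[1,2,0,1,2],[2,1,2,0,1,2]]

/-- their successors -/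
def nextF4_2 : List (List ℕ) :=
  [[8,9,1],[8,2,0],[3,1,4],[2,8,5],[5,9,2],[4,6,3],[9,5,7],[9,8,6]]

/-- representatives -/
def repsF4_3 : List (List ℕ) :=
  [[],[3],[2,3],[1,2,3],[0,1,2,3],[2,1,2,3],[2,0,1,2,3],[3,2,1,2,3],[1,2,0,1,2,3],[3,2,0,1,2,3],[2,1,2,0,1,2,3],[3,
    1,2,0,1,2,3],[3,2,1,2,0,1,2,3],[2,3,1,2,0,1,2,3],[2,3,2,1,2,0,1,2,3],[1,2,3,1,2,0,1,2,3],[1,2,3,2,1,2,0,1,2,3],
    [0,1,2,3,1,2,0,1,2,3],[0,1,2,3,2,1,2,0,1,2,3],[2,1,2,3,2,1,2,0,1,2,3],[2,0,1,2,3,2,1,2,0,1,2,3],[1,2,0,1,2,3,2,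
    1,2,0,1,2,3],[2,1,2,0,1,2,3,2,1,2,0,1,2,3],[3,2,1,2,0,1,2,3,2,1,2,0,1,2,3]]

/-- their successors -/
def nextF4_3 : List (List ℕ) :=
  [[24,25,26,1],[24,25,2,0],[24,3,1,26],[4,2,5,26],[3,24,6,26],[6,25,3,7],[5,8,4,9],[9,25,26,5],[25,6,10,11],[7,11,
    26,6],[25,24,8,12],[25,9,13,8],[25,24,14,10],[25,15,11,14],[25,16,12,13],[17,13,26,16],[18,14,19,15],[15,25,26,
    18],[16,25,20,17],[20,24,16,26],[19,21,18,26],[24,20,22,26],[24,25,21,23],[24,25,26,22]]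

/-- all steps -/
def stepsF4 : List (List (List ℕ) × List (List ℕ)) :=
  [(repsF4_0, nextF4_0),
    (repsF4_1, nextF4_1),
    (repsF4_2, nextF4_2),
    (repsF4_3, nextF4_3)]

/-- torus certificate -/
def torE6 : ℕ × List ℕ × List (List ℤ) × List (List ℤ) × List (List ℤ) :=
  (3, [0], [[1,0,2,0,1,2]], [[0,0,0,0,0,0],[1,2,2,3,2,1],[-1,0,0,0,0,0],[2,3,4,6,4,2],[0,1,1,2,2,1],[-2,-1,-2,-2,-1,0]], [[4,3,5,6,4,2]])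

/-- degrees -/
def degE6 : List ℕ := [2,5,6,8,9,12]

/-- representatives -/
def repsE6_0 : List (List ℕ) :=
  [[],[0]]

/-- their successors -/
def nextE6_0 : List (List ℕ) :=
  [[1],[0]]

/-- representatives -/
def repsE6_1 : List (List ℕ) :=
  [[],[1]]

/-- their successors -/
def nextE6_1 : List (List ℕ) :=
  [[2,1],[2,0]]

/-- representatives -/
def repsE6_2 : List (List ℕ) :=
  [[],[2],[0,2]]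

/-- their successors -/
def nextE6_2 : List (List ℕ) :=
  [[3,4,1],[2,4,0],[1,4,3]]

/-- representatives -/
def repsE6_3 : List (List ℕ) :=
  [[],[3],[1,3],[2,3],[2,1,3],[0,2,3],[0,2,1,3],[3,2,1,3],[3,0,2,1,3],[2,3,0,2,1,3]]

/-- their successors -/
def nextE6_3 : List (List ℕ) :=
  [[10,11,12,1],[10,2,3,0],[10,1,4,11],[5,4,1,12],[6,3,2,7],[3,6,10,12],[4,5,10,8],[8,12,11,4],[7,12,9,6],[11,12,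
    8,10]]

/-- representatives -/
def repsE6_4 : List (List ℕ) :=
  [[],[4],[3,4],[1,3,4],[2,3,4],[2,1,3,4],[0,2,3,4],[0,2,1,3,4],[3,2,1,3,4],[3,0,2,1,3,4],[4,3,2,1,3,4],[2,3,0,2,
    1,3,4],[4,3,0,2,1,3,4],[4,2,3,0,2,1,3,4],[3,4,2,3,0,2,1,3,4],[1,3,4,2,3,0,2,1,3,4]]

/-- their successors -/
def nextE6_4 : List (List ℕ) :=
  [[16,17,18,19,1],[16,17,18,2,0],[16,3,4,1,19],[16,2,5,17,19],[6,5,2,18,19],[7,4,3,8,19],[4,7,16,18,19],[5,6,16,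
    9,19],[9,18,17,5,10],[8,18,11,7,12],[12,18,17,19,8],[17,18,9,16,13],[10,18,13,19,9],[17,18,12,14,11],[17,15,19,
    13,16],[17,14,19,18,16]]

/-- representatives -/
def repsE6_5 : List (List ℕ) :=
  [[],[5],[4,5],[3,4,5],[1,3,4,5],[2,3,4,5],[2,1,3,4,5],[0,2,3,4,5],[0,2,1,3,4,5],[3,2,1,3,4,5],[3,0,2,1,3,4,5],[4,
    3,2,1,3,4,5],[2,3,0,2,1,3,4,5],[4,3,0,2,1,3,4,5],[5,4,3,2,1,3,4,5],[4,2,3,0,2,1,3,4,5],[5,4,3,0,2,1,3,4,5],[3,4,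
    2,3,0,2,1,3,4,5],[5,4,2,3,0,2,1,3,4,5],[1,3,4,2,3,0,2,1,3,4,5],[5,3,4,2,3,0,2,1,3,4,5],[5,1,3,4,2,3,0,2,1,3,4,5],
    [4,5,3,4,2,3,0,2,1,3,4,5],[4,5,1,3,4,2,3,0,2,1,3,4,5],[3,4,5,1,3,4,2,3,0,2,1,3,4,5],[2,3,4,5,1,3,4,2,3,0,2,1,3,
    4,5],[0,2,3,4,5,1,3,4,2,3,0,2,1,3,4,5]]

/-- their successors -/
def nextE6_5 : List (List ℕ) :=
  [[27,28,29,30,31,1],[27,28,29,30,2,0],[27,28,29,3,1,31],[27,4,5,2,30,31],[27,3,6,28,30,31],[7,6,3,29,30,31],[8,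
    5,4,9,30,31],[5,8,27,29,30,31],[6,7,27,10,30,31],[10,29,28,6,11,31],[9,29,12,8,13,31],[13,29,28,30,9,14],[28,29,
    10,27,15,31],[11,29,15,30,10,16],[16,29,28,30,31,11],[28,29,13,17,12,18],[14,29,18,30,31,13],[28,19,30,15,27,20],
    [28,29,16,20,31,15],[28,17,30,29,27,21],[28,21,30,18,22,17],[28,20,30,29,23,19],[28,23,30,31,20,27],[28,22,30,24,
    21,27],[28,31,25,23,29,27],[26,31,24,30,29,27],[25,31,28,30,29,27]]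

/-- all steps -/
def stepsE6 : List (List (List ℕ) × List (List ℕ)) :=
  [(repsE6_0, nextE6_0),
    (repsE6_1, nextE6_1),
    (repsE6_2, nextE6_2),
    (repsE6_3, nextE6_3),
    (repsE6_4, nextE6_4),
    (repsE6_5, nextE6_5)]

/-- torus certificate -/
def torE7 : ℕ × List ℕ × List (List ℤ) × List (List ℤ) × List (List ℤ) :=
  (2, [1], [[0,1,0,0,1,0,1]], [[2,2,3,4,3,2,1],[0,0,0,0,0,0,0],[3,4,6,8,6,4,2],[4,6,8,12,9,6,3],[1,1,2,3,3,2,1],[2,3,4,6,5,4,2],[-1,-2,-2,-3,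
    -2,-1,0]], [[4,7,8,12,9,6,3]])

/-- degrees -/
def degE7 : List ℕ := [2,6,8,10,12,14,18]

/-- representatives -/
def repsE7_0 : List (List ℕ) :=
  [[],[0]]

/-- their successors -/
def nextE7_0 : List (List ℕ) :=
  [[1],[0]]

/-- representatives -/
def repsE7_1 : List (List ℕ) :=
  [[],[1]]

/-- their successors -/
def nextE7_1 : List (List ℕ) :=
  [[2,1],[2,0]]

/-- representatives -/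
def repsE7_2 : List (List ℕ) :=
  [[],[2],[0,2]]

/-- their successors -/
def nextE7_2 : List (List ℕ) :=
  [[3,4,1],[2,4,0],[1,4,3]]

/-- representatives -/
def repsE7_3 : List (List ℕ) :=
  [[],[3],[1,3],[2,3],[2,1,3],[0,2,3],[0,2,1,3],[3,2,1,3],[3,0,2,1,3],[2,3,0,2,1,3]]

/-- their successors -/
def nextE7_3 : List (List ℕ) :=
  [[10,11,12,1],[10,2,3,0],[10,1,4,11],[5,4,1,12],[6,3,2,7],[3,6,10,12],[4,5,10,8],[8,12,11,4],[7,12,9,6],[11,12,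
    8,10]]

/-- representatives -/
def repsE7_4 : List (List ℕ) :=
  [[],[4],[3,4],[1,3,4],[2,3,4],[2,1,3,4],[0,2,3,4],[0,2,1,3,4],[3,2,1,3,4],[3,0,2,1,3,4],[4,3,2,1,3,4],[2,3,0,2,
    1,3,4],[4,3,0,2,1,3,4],[4,2,3,0,2,1,3,4],[3,4,2,3,0,2,1,3,4],[1,3,4,2,3,0,2,1,3,4]]

/-- their successors -/
def nextE7_4 : List (List ℕ) :=
  [[16,17,18,19,1],[16,17,18,2,0],[16,3,4,1,19],[16,2,5,17,19],[6,5,2,18,19],[7,4,3,8,19],[4,7,16,18,19],[5,6,16,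
    9,19],[9,18,17,5,10],[8,18,11,7,12],[12,18,17,19,8],[17,18,9,16,13],[10,18,13,19,9],[17,18,12,14,11],[17,15,19,
    13,16],[17,14,19,18,16]]

/-- representatives -/
def repsE7_5 : List (List ℕ) :=
  [[],[5],[4,5],[3,4,5],[1,3,4,5],[2,3,4,5],[2,1,3,4,5],[0,2,3,4,5],[0,2,1,3,4,5],[3,2,1,3,4,5],[3,0,2,1,3,4,5],[4,
    3,2,1,3,4,5],[2,3,0,2,1,3,4,5],[4,3,0,2,1,3,4,5],[5,4,3,2,1,3,4,5],[4,2,3,0,2,1,3,4,5],[5,4,3,0,2,1,3,4,5],[3,4,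
    2,3,0,2,1,3,4,5],[5,4,2,3,0,2,1,3,4,5],[1,3,4,2,3,0,2,1,3,4,5],[5,3,4,2,3,0,2,1,3,4,5],[5,1,3,4,2,3,0,2,1,3,4,5],
    [4,5,3,4,2,3,0,2,1,3,4,5],[4,5,1,3,4,2,3,0,2,1,3,4,5],[3,4,5,1,3,4,2,3,0,2,1,3,4,5],[2,3,4,5,1,3,4,2,3,0,2,1,3,
    4,5],[0,2,3,4,5,1,3,4,2,3,0,2,1,3,4,5]]

/-- their successors -/
def nextE7_5 : List (List ℕ) :=
  [[27,28,29,30,31,1],[27,28,29,30,2,0],[27,28,29,3,1,31],[27,4,5,2,30,31],[27,3,6,28,30,31],[7,6,3,29,30,31],[8,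
    5,4,9,30,31],[5,8,27,29,30,31],[6,7,27,10,30,31],[10,29,28,6,11,31],[9,29,12,8,13,31],[13,29,28,30,9,14],[28,29,
    10,27,15,31],[11,29,15,30,10,16],[16,29,28,30,31,11],[28,29,13,17,12,18],[14,29,18,30,31,13],[28,19,30,15,27,20],
    [28,29,16,20,31,15],[28,17,30,29,27,21],[28,21,30,18,22,17],[28,20,30,29,23,19],[28,23,30,31,20,27],[28,22,30,24,
    21,27],[28,31,25,23,29,27],[26,31,24,30,29,27],[25,31,28,30,29,27]]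

/-- representatives -/
def repsE7_6 : List (List ℕ) :=
  [[],[6],[5,6],[4,5,6],[3,4,5,6],[1,3,4,5,6],[2,3,4,5,6],[2,1,3,4,5,6],[0,2,3,4,5,6],[0,2,1,3,4,5,6],[3,2,1,3,4,
    5,6],[3,0,2,1,3,4,5,6],[4,3,2,1,3,4,5,6],[2,3,0,2,1,3,4,5,6],[4,3,0,2,1,3,4,5,6],[5,4,3,2,1,3,4,5,6],[4,2,3,0,2,
    1,3,4,5,6],[5,4,3,0,2,1,3,4,5,6],[6,5,4,3,2,1,3,4,5,6],[3,4,2,3,0,2,1,3,4,5,6],[5,4,2,3,0,2,1,3,4,5,6],[6,5,4,3,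
    0,2,1,3,4,5,6],[1,3,4,2,3,0,2,1,3,4,5,6],[5,3,4,2,3,0,2,1,3,4,5,6],[6,5,4,2,3,0,2,1,3,4,5,6],[5,1,3,4,2,3,0,2,1,
    3,4,5,6],[4,5,3,4,2,3,0,2,1,3,4,5,6],[6,5,3,4,2,3,0,2,1,3,4,5,6],[4,5,1,3,4,2,3,0,2,1,3,4,5,6],[6,5,1,3,4,2,3,0,
    2,1,3,4,5,6],[6,4,5,3,4,2,3,0,2,1,3,4,5,6],[3,4,5,1,3,4,2,3,0,2,1,3,4,5,6],[6,4,5,1,3,4,2,3,0,2,1,3,4,5,6],[5,6,
    4,5,3,4,2,3,0,2,1,3,4,5,6],[2,3,4,5,1,3,4,2,3,0,2,1,3,4,5,6],[6,3,4,5,1,3,4,2,3,0,2,1,3,4,5,6],[5,6,4,5,1,3,4,2,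
    3,0,2,1,3,4,5,6],[0,2,3,4,5,1,3,4,2,3,0,2,1,3,4,5,6],[6,2,3,4,5,1,3,4,2,3,0,2,1,3,4,5,6],[5,6,3,4,5,1,3,4,2,3,0,
    2,1,3,4,5,6],[6,0,2,3,4,5,1,3,4,2,3,0,2,1,3,4,5,6],[5,6,2,3,4,5,1,3,4,2,3,0,2,1,3,4,5,6],[4,5,6,3,4,5,1,3,4,2,3,
    0,2,1,3,4,5,6],[5,6,0,2,3,4,5,1,3,4,2,3,0,2,1,3,4,5,6],[4,5,6,2,3,4,5,1,3,4,2,3,0,2,1,3,4,5,6],[4,5,6,0,2,3,4,5,
    1,3,4,2,3,0,2,1,3,4,5,6],[3,4,5,6,2,3,4,5,1,3,4,2,3,0,2,1,3,4,5,6],[3,4,5,6,0,2,3,4,5,1,3,4,2,3,0,2,1,3,4,5,6],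
    [1,3,4,5,6,2,3,4,5,1,3,4,2,3,0,2,1,3,4,5,6],[1,3,4,5,6,0,2,3,4,5,1,3,4,2,3,0,2,1,3,4,5,6],[2,3,4,5,6,0,2,3,4,5,
    1,3,4,2,3,0,2,1,3,4,5,6],[2,1,3,4,5,6,0,2,3,4,5,1,3,4,2,3,0,2,1,3,4,5,6],[3,2,1,3,4,5,6,0,2,3,4,5,1,3,4,2,3,0,2,
    1,3,4,5,6],[4,3,2,1,3,4,5,6,0,2,3,4,5,1,3,4,2,3,0,2,1,3,4,5,6],[5,4,3,2,1,3,4,5,6,0,2,3,4,5,1,3,4,2,3,0,2,1,3,4,
    5,6],[6,5,4,3,2,1,3,4,5,6,0,2,3,4,5,1,3,4,2,3,0,2,1,3,4,5,6]]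

/-- their successors -/
def nextE7_6 : List (List ℕ) :=
  [[56,57,58,59,60,61,1],[56,57,58,59,60,2,0],[56,57,58,59,3,1,61],[56,57,58,4,2,60,61],[56,5,6,3,59,60,61],[56,4,
    7,57,59,60,61],[8,7,4,58,59,60,61],[9,6,5,10,59,60,61],[6,9,56,58,59,60,61],[7,8,56,11,59,60,61],[11,58,57,7,12,
    60,61],[10,58,13,9,14,60,61],[14,58,57,59,10,15,61],[57,58,11,56,16,60,61],[12,58,16,59,11,17,61],[17,58,57,59,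
    60,12,18],[57,58,14,19,13,20,61],[15,58,20,59,60,14,21],[21,58,57,59,60,61,15],[57,22,59,16,56,23,61],[57,58,17,
    23,60,16,24],[18,58,24,59,60,61,17],[57,19,59,58,56,25,61],[57,25,59,20,26,19,27],[57,58,21,27,60,61,20],[57,23,
    59,58,28,22,29],[57,28,59,60,23,56,30],[57,29,59,24,30,61,23],[57,26,59,31,25,56,32],[57,27,59,58,32,61,25],[57,
    32,59,60,27,33,26],[57,60,34,28,58,56,35],[57,30,59,35,29,36,28],[57,36,59,60,61,30,56],[37,60,31,59,58,56,38],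
    [57,60,38,32,58,39,31],[57,33,59,39,61,32,56],[34,60,57,59,58,56,40],[40,60,35,59,58,41,34],[57,60,41,36,42,35,
    56],[38,60,57,59,58,43,37],[43,60,39,59,44,38,56],[57,60,44,61,39,58,56],[41,60,57,59,45,40,56],[45,60,42,46,41,
    58,56],[44,60,57,47,43,58,56],[47,48,61,44,59,58,56],[46,49,50,45,59,58,56],[49,46,61,60,59,58,56],[48,47,51,60,
    59,58,56],[61,51,47,57,59,58,56],[61,50,49,52,59,58,56],[61,57,60,51,53,58,56],[61,57,60,59,52,54,56],[61,57,60,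
    59,58,53,55],[61,57,60,59,58,56,54]]

/-- all steps -/
def stepsE7 : List (List (List ℕ) × List (List ℕ)) :=
  [(repsE7_0, nextE7_0),
    (repsE7_1, nextE7_1),
    (repsE7_2, nextE7_2),
    (repsE7_3, nextE7_3),
    (repsE7_4, nextE7_4),
    (repsE7_5, nextE7_5),
    (repsE7_6, nextE7_6)]

/-- torus certificate -/
def torE8 : ℕ × List ℕ × List (List ℤ) × List (List ℤ) × List (List ℤ) :=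
  (1, [], [], [[4,5,7,10,8,6,4,2],[5,8,10,15,12,9,6,3],[7,10,14,20,16,12,8,4],[10,15,20,30,24,18,12,6],[8,12,16,24,20,15,10,5],
    [6,9,12,18,15,12,8,4],[4,6,8,12,10,8,6,3],[2,3,4,6,5,4,3,2]], [])

/-- degrees -/
def degE8 : List ℕ := [2,8,12,14,18,20,24,30]

/-- representatives -/
def repsE8_0 : List (List ℕ) :=
  [[],[0]]

/-- their successors -/
def nextE8_0 : List (List ℕ) :=
  [[1],[0]]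

/-- representatives -/
def repsE8_1 : List (List ℕ) :=
  [[],[1]]

/-- their successors -/
def nextE8_1 : List (List ℕ) :=
  [[2,1],[2,0]]

/-- representatives -/
def repsE8_2 : List (List ℕ) :=
  [[],[2],[0,2]]

/-- their successors -/
def nextE8_2 : List (List ℕ) :=
  [[3,4,1],[2,4,0],[1,4,3]]

/-- representatives -/
def repsE8_3 : List (List ℕ) :=
  [[],[3],[1,3],[2,3],[2,1,3],[0,2,3],[0,2,1,3],[3,2,1,3],[3,0,2,1,3],[2,3,0,2,1,3]]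

/-- their successors -/
def nextE8_3 : List (List ℕ) :=
  [[10,11,12,1],[10,2,3,0],[10,1,4,11],[5,4,1,12],[6,3,2,7],[3,6,10,12],[4,5,10,8],[8,12,11,4],[7,12,9,6],[11,12,
    8,10]]

/-- representatives -/
def repsE8_4 : List (List ℕ) :=
  [[],[4],[3,4],[1,3,4],[2,3,4],[2,1,3,4],[0,2,3,4],[0,2,1,3,4],[3,2,1,3,4],[3,0,2,1,3,4],[4,3,2,1,3,4],[2,3,0,2,
    1,3,4],[4,3,0,2,1,3,4],[4,2,3,0,2,1,3,4],[3,4,2,3,0,2,1,3,4],[1,3,4,2,3,0,2,1,3,4]]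

/-- their successors -/
def nextE8_4 : List (List ℕ) :=
  [[16,17,18,19,1],[16,17,18,2,0],[16,3,4,1,19],[16,2,5,17,19],[6,5,2,18,19],[7,4,3,8,19],[4,7,16,18,19],[5,6,16,
    9,19],[9,18,17,5,10],[8,18,11,7,12],[12,18,17,19,8],[17,18,9,16,13],[10,18,13,19,9],[17,18,12,14,11],[17,15,19,
    13,16],[17,14,19,18,16]]

/-- representatives -/
def repsE8_5 : List (List ℕ) :=
  [[],[5],[4,5],[3,4,5],[1,3,4,5],[2,3,4,5],[2,1,3,4,5],[0,2,3,4,5],[0,2,1,3,4,5],[3,2,1,3,4,5],[3,0,2,1,3,4,5],[4,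
    3,2,1,3,4,5],[2,3,0,2,1,3,4,5],[4,3,0,2,1,3,4,5],[5,4,3,2,1,3,4,5],[4,2,3,0,2,1,3,4,5],[5,4,3,0,2,1,3,4,5],[3,4,
    2,3,0,2,1,3,4,5],[5,4,2,3,0,2,1,3,4,5],[1,3,4,2,3,0,2,1,3,4,5],[5,3,4,2,3,0,2,1,3,4,5],[5,1,3,4,2,3,0,2,1,3,4,5],
    [4,5,3,4,2,3,0,2,1,3,4,5],[4,5,1,3,4,2,3,0,2,1,3,4,5],[3,4,5,1,3,4,2,3,0,2,1,3,4,5],[2,3,4,5,1,3,4,2,3,0,2,1,3,
    4,5],[0,2,3,4,5,1,3,4,2,3,0,2,1,3,4,5]]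

/-- their successors -/
def nextE8_5 : List (List ℕ) :=
  [[27,28,29,30,31,1],[27,28,29,30,2,0],[27,28,29,3,1,31],[27,4,5,2,30,31],[27,3,6,28,30,31],[7,6,3,29,30,31],[8,
    5,4,9,30,31],[5,8,27,29,30,31],[6,7,27,10,30,31],[10,29,28,6,11,31],[9,29,12,8,13,31],[13,29,28,30,9,14],[28,29,
    10,27,15,31],[11,29,15,30,10,16],[16,29,28,30,31,11],[28,29,13,17,12,18],[14,29,18,30,31,13],[28,19,30,15,27,20],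
    [28,29,16,20,31,15],[28,17,30,29,27,21],[28,21,30,18,22,17],[28,20,30,29,23,19],[28,23,30,31,20,27],[28,22,30,24,
    21,27],[28,31,25,23,29,27],[26,31,24,30,29,27],[25,31,28,30,29,27]]

/-- representatives -/
def repsE8_6 : List (List ℕ) :=
  [[],[6],[5,6],[4,5,6],[3,4,5,6],[1,3,4,5,6],[2,3,4,5,6],[2,1,3,4,5,6],[0,2,3,4,5,6],[0,2,1,3,4,5,6],[3,2,1,3,4,
    5,6],[3,0,2,1,3,4,5,6],[4,3,2,1,3,4,5,6],[2,3,0,2,1,3,4,5,6],[4,3,0,2,1,3,4,5,6],[5,4,3,2,1,3,4,5,6],[4,2,3,0,2,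
    1,3,4,5,6],[5,4,3,0,2,1,3,4,5,6],[6,5,4,3,2,1,3,4,5,6],[3,4,2,3,0,2,1,3,4,5,6],[5,4,2,3,0,2,1,3,4,5,6],[6,5,4,3,
    0,2,1,3,4,5,6],[1,3,4,2,3,0,2,1,3,4,5,6],[5,3,4,2,3,0,2,1,3,4,5,6],[6,5,4,2,3,0,2,1,3,4,5,6],[5,1,3,4,2,3,0,2,1,
    3,4,5,6],[4,5,3,4,2,3,0,2,1,3,4,5,6],[6,5,3,4,2,3,0,2,1,3,4,5,6],[4,5,1,3,4,2,3,0,2,1,3,4,5,6],[6,5,1,3,4,2,3,0,
    2,1,3,4,5,6],[6,4,5,3,4,2,3,0,2,1,3,4,5,6],[3,4,5,1,3,4,2,3,0,2,1,3,4,5,6],[6,4,5,1,3,4,2,3,0,2,1,3,4,5,6],[5,6,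
    4,5,3,4,2,3,0,2,1,3,4,5,6],[2,3,4,5,1,3,4,2,3,0,2,1,3,4,5,6],[6,3,4,5,1,3,4,2,3,0,2,1,3,4,5,6],[5,6,4,5,1,3,4,2,
    3,0,2,1,3,4,5,6],[0,2,3,4,5,1,3,4,2,3,0,2,1,3,4,5,6],[6,2,3,4,5,1,3,4,2,3,0,2,1,3,4,5,6],[5,6,3,4,5,1,3,4,2,3,0,
    2,1,3,4,5,6],[6,0,2,3,4,5,1,3,4,2,3,0,2,1,3,4,5,6],[5,6,2,3,4,5,1,3,4,2,3,0,2,1,3,4,5,6],[4,5,6,3,4,5,1,3,4,2,3,
    0,2,1,3,4,5,6],[5,6,0,2,3,4,5,1,3,4,2,3,0,2,1,3,4,5,6],[4,5,6,2,3,4,5,1,3,4,2,3,0,2,1,3,4,5,6],[4,5,6,0,2,3,4,5,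
    1,3,4,2,3,0,2,1,3,4,5,6],[3,4,5,6,2,3,4,5,1,3,4,2,3,0,2,1,3,4,5,6],[3,4,5,6,0,2,3,4,5,1,3,4,2,3,0,2,1,3,4,5,6],
    [1,3,4,5,6,2,3,4,5,1,3,4,2,3,0,2,1,3,4,5,6],[1,3,4,5,6,0,2,3,4,5,1,3,4,2,3,0,2,1,3,4,5,6],[2,3,4,5,6,0,2,3,4,5,
    1,3,4,2,3,0,2,1,3,4,5,6],[2,1,3,4,5,6,0,2,3,4,5,1,3,4,2,3,0,2,1,3,4,5,6],[3,2,1,3,4,5,6,0,2,3,4,5,1,3,4,2,3,0,2,
    1,3,4,5,6],[4,3,2,1,3,4,5,6,0,2,3,4,5,1,3,4,2,3,0,2,1,3,4,5,6],[5,4,3,2,1,3,4,5,6,0,2,3,4,5,1,3,4,2,3,0,2,1,3,4,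
    5,6],[6,5,4,3,2,1,3,4,5,6,0,2,3,4,5,1,3,4,2,3,0,2,1,3,4,5,6]]

/-- their successors -/
def nextE8_6 : List (List ℕ) :=
  [[56,57,58,59,60,61,1],[56,57,58,59,60,2,0],[56,57,58,59,3,1,61],[56,57,58,4,2,60,61],[56,5,6,3,59,60,61],[56,4,
    7,57,59,60,61],[8,7,4,58,59,60,61],[9,6,5,10,59,60,61],[6,9,56,58,59,60,61],[7,8,56,11,59,60,61],[11,58,57,7,12,
    60,61],[10,58,13,9,14,60,61],[14,58,57,59,10,15,61],[57,58,11,56,16,60,61],[12,58,16,59,11,17,61],[17,58,57,59,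
    60,12,18],[57,58,14,19,13,20,61],[15,58,20,59,60,14,21],[21,58,57,59,60,61,15],[57,22,59,16,56,23,61],[57,58,17,
    23,60,16,24],[18,58,24,59,60,61,17],[57,19,59,58,56,25,61],[57,25,59,20,26,19,27],[57,58,21,27,60,61,20],[57,23,
    59,58,28,22,29],[57,28,59,60,23,56,30],[57,29,59,24,30,61,23],[57,26,59,31,25,56,32],[57,27,59,58,32,61,25],[57,
    32,59,60,27,33,26],[57,60,34,28,58,56,35],[57,30,59,35,29,36,28],[57,36,59,60,61,30,56],[37,60,31,59,58,56,38],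
    [57,60,38,32,58,39,31],[57,33,59,39,61,32,56],[34,60,57,59,58,56,40],[40,60,35,59,58,41,34],[57,60,41,36,42,35,
    56],[38,60,57,59,58,43,37],[43,60,39,59,44,38,56],[57,60,44,61,39,58,56],[41,60,57,59,45,40,56],[45,60,42,46,41,
    58,56],[44,60,57,47,43,58,56],[47,48,61,44,59,58,56],[46,49,50,45,59,58,56],[49,46,61,60,59,58,56],[48,47,51,60,
    59,58,56],[61,51,47,57,59,58,56],[61,50,49,52,59,58,56],[61,57,60,51,53,58,56],[61,57,60,59,52,54,56],[61,57,60,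
    59,58,53,55],[61,57,60,59,58,56,54]]

/-- representatives -/
def repsE8_7 : List (List ℕ) :=
  [[],[7],[6,7],[5,6,7],[4,5,6,7],[3,4,5,6,7],[1,3,4,5,6,7],[2,3,4,5,6,7],[2,1,3,4,5,6,7],[0,2,3,4,5,6,7],[0,2,1,
    3,4,5,6,7],[3,2,1,3,4,5,6,7],[3,0,2,1,3,4,5,6,7],[4,3,2,1,3,4,5,6,7],[2,3,0,2,1,3,4,5,6,7],[4,3,0,2,1,3,4,5,6,7],
    [5,4,3,2,1,3,4,5,6,7],[4,2,3,0,2,1,3,4,5,6,7],[5,4,3,0,2,1,3,4,5,6,7],[6,5,4,3,2,1,3,4,5,6,7],[3,4,2,3,0,2,1,3,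
    4,5,6,7],[5,4,2,3,0,2,1,3,4,5,6,7],[6,5,4,3,0,2,1,3,4,5,6,7],[7,6,5,4,3,2,1,3,4,5,6,7],[1,3,4,2,3,0,2,1,3,4,5,6,
    7],[5,3,4,2,3,0,2,1,3,4,5,6,7],[6,5,4,2,3,0,2,1,3,4,5,6,7],[7,6,5,4,3,0,2,1,3,4,5,6,7],[5,1,3,4,2,3,0,2,1,3,4,5,
    6,7],[4,5,3,4,2,3,0,2,1,3,4,5,6,7],[6,5,3,4,2,3,0,2,1,3,4,5,6,7],[7,6,5,4,2,3,0,2,1,3,4,5,6,7],[4,5,1,3,4,2,3,0,
    2,1,3,4,5,6,7],[6,5,1,3,4,2,3,0,2,1,3,4,5,6,7],[6,4,5,3,4,2,3,0,2,1,3,4,5,6,7],[7,6,5,3,4,2,3,0,2,1,3,4,5,6,7],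
    [3,4,5,1,3,4,2,3,0,2,1,3,4,5,6,7],[6,4,5,1,3,4,2,3,0,2,1,3,4,5,6,7],[7,6,5,1,3,4,2,3,0,2,1,3,4,5,6,7],[5,6,4,5,
    3,4,2,3,0,2,1,3,4,5,6,7],[7,6,4,5,3,4,2,3,0,2,1,3,4,5,6,7],[2,3,4,5,1,3,4,2,3,0,2,1,3,4,5,6,7],[6,3,4,5,1,3,4,2,
    3,0,2,1,3,4,5,6,7],[5,6,4,5,1,3,4,2,3,0,2,1,3,4,5,6,7],[7,6,4,5,1,3,4,2,3,0,2,1,3,4,5,6,7],[7,5,6,4,5,3,4,2,3,0,
    2,1,3,4,5,6,7],[0,2,3,4,5,1,3,4,2,3,0,2,1,3,4,5,6,7],[6,2,3,4,5,1,3,4,2,3,0,2,1,3,4,5,6,7],[5,6,3,4,5,1,3,4,2,3,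
    0,2,1,3,4,5,6,7],[7,6,3,4,5,1,3,4,2,3,0,2,1,3,4,5,6,7],[7,5,6,4,5,1,3,4,2,3,0,2,1,3,4,5,6,7],[6,7,5,6,4,5,3,4,2,
    3,0,2,1,3,4,5,6,7],[6,0,2,3,4,5,1,3,4,2,3,0,2,1,3,4,5,6,7],[5,6,2,3,4,5,1,3,4,2,3,0,2,1,3,4,5,6,7],[7,6,2,3,4,5,
    1,3,4,2,3,0,2,1,3,4,5,6,7],[4,5,6,3,4,5,1,3,4,2,3,0,2,1,3,4,5,6,7],[7,5,6,3,4,5,1,3,4,2,3,0,2,1,3,4,5,6,7],[6,7,
    5,6,4,5,1,3,4,2,3,0,2,1,3,4,5,6,7],[5,6,0,2,3,4,5,1,3,4,2,3,0,2,1,3,4,5,6,7],[7,6,0,2,3,4,5,1,3,4,2,3,0,2,1,3,4,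
    5,6,7],[4,5,6,2,3,4,5,1,3,4,2,3,0,2,1,3,4,5,6,7],[7,5,6,2,3,4,5,1,3,4,2,3,0,2,1,3,4,5,6,7],[7,4,5,6,3,4,5,1,3,4,
    2,3,0,2,1,3,4,5,6,7],[6,7,5,6,3,4,5,1,3,4,2,3,0,2,1,3,4,5,6,7],[4,5,6,0,2,3,4,5,1,3,4,2,3,0,2,1,3,4,5,6,7],[7,5,
    6,0,2,3,4,5,1,3,4,2,3,0,2,1,3,4,5,6,7],[3,4,5,6,2,3,4,5,1,3,4,2,3,0,2,1,3,4,5,6,7],[7,4,5,6,2,3,4,5,1,3,4,2,3,0,
    2,1,3,4,5,6,7],[6,7,5,6,2,3,4,5,1,3,4,2,3,0,2,1,3,4,5,6,7],[6,7,4,5,6,3,4,5,1,3,4,2,3,0,2,1,3,4,5,6,7],[3,4,5,6,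
    0,2,3,4,5,1,3,4,2,3,0,2,1,3,4,5,6,7],[7,4,5,6,0,2,3,4,5,1,3,4,2,3,0,2,1,3,4,5,6,7],[6,7,5,6,0,2,3,4,5,1,3,4,2,3,
    0,2,1,3,4,5,6,7],[1,3,4,5,6,2,3,4,5,1,3,4,2,3,0,2,1,3,4,5,6,7],[7,3,4,5,6,2,3,4,5,1,3,4,2,3,0,2,1,3,4,5,6,7],[6,
    7,4,5,6,2,3,4,5,1,3,4,2,3,0,2,1,3,4,5,6,7],[5,6,7,4,5,6,3,4,5,1,3,4,2,3,0,2,1,3,4,5,6,7],[1,3,4,5,6,0,2,3,4,5,1,
    3,4,2,3,0,2,1,3,4,5,6,7],[2,3,4,5,6,0,2,3,4,5,1,3,4,2,3,0,2,1,3,4,5,6,7],[7,3,4,5,6,0,2,3,4,5,1,3,4,2,3,0,2,1,3,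
    4,5,6,7],[6,7,4,5,6,0,2,3,4,5,1,3,4,2,3,0,2,1,3,4,5,6,7],[7,1,3,4,5,6,2,3,4,5,1,3,4,2,3,0,2,1,3,4,5,6,7],[6,7,3,
    4,5,6,2,3,4,5,1,3,4,2,3,0,2,1,3,4,5,6,7],[5,6,7,4,5,6,2,3,4,5,1,3,4,2,3,0,2,1,3,4,5,6,7],[2,1,3,4,5,6,0,2,3,4,5,
    1,3,4,2,3,0,2,1,3,4,5,6,7],[7,1,3,4,5,6,0,2,3,4,5,1,3,4,2,3,0,2,1,3,4,5,6,7],[7,2,3,4,5,6,0,2,3,4,5,1,3,4,2,3,0,
    2,1,3,4,5,6,7],[6,7,3,4,5,6,0,2,3,4,5,1,3,4,2,3,0,2,1,3,4,5,6,7],[5,6,7,4,5,6,0,2,3,4,5,1,3,4,2,3,0,2,1,3,4,5,6,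
    7],[6,7,1,3,4,5,6,2,3,4,5,1,3,4,2,3,0,2,1,3,4,5,6,7],[5,6,7,3,4,5,6,2,3,4,5,1,3,4,2,3,0,2,1,3,4,5,6,7],[3,2,1,3,
    4,5,6,0,2,3,4,5,1,3,4,2,3,0,2,1,3,4,5,6,7],[7,2,1,3,4,5,6,0,2,3,4,5,1,3,4,2,3,0,2,1,3,4,5,6,7],[6,7,1,3,4,5,6,0,
    2,3,4,5,1,3,4,2,3,0,2,1,3,4,5,6,7],[6,7,2,3,4,5,6,0,2,3,4,5,1,3,4,2,3,0,2,1,3,4,5,6,7],[5,6,7,3,4,5,6,0,2,3,4,5,
    1,3,4,2,3,0,2,1,3,4,5,6,7],[5,6,7,1,3,4,5,6,2,3,4,5,1,3,4,2,3,0,2,1,3,4,5,6,7],[4,5,6,7,3,4,5,6,2,3,4,5,1,3,4,2,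
    3,0,2,1,3,4,5,6,7],[4,3,2,1,3,4,5,6,0,2,3,4,5,1,3,4,2,3,0,2,1,3,4,5,6,7],[7,3,2,1,3,4,5,6,0,2,3,4,5,1,3,4,2,3,0,
    2,1,3,4,5,6,7],[6,7,2,1,3,4,5,6,0,2,3,4,5,1,3,4,2,3,0,2,1,3,4,5,6,7],[5,6,7,1,3,4,5,6,0,2,3,4,5,1,3,4,2,3,0,2,1,
    3,4,5,6,7],[5,6,7,2,3,4,5,6,0,2,3,4,5,1,3,4,2,3,0,2,1,3,4,5,6,7],[4,5,6,7,3,4,5,6,0,2,3,4,5,1,3,4,2,3,0,2,1,3,4,
    5,6,7],[4,5,6,7,1,3,4,5,6,2,3,4,5,1,3,4,2,3,0,2,1,3,4,5,6,7],[5,4,3,2,1,3,4,5,6,0,2,3,4,5,1,3,4,2,3,0,2,1,3,4,5,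
    6,7],[7,4,3,2,1,3,4,5,6,0,2,3,4,5,1,3,4,2,3,0,2,1,3,4,5,6,7],[6,7,3,2,1,3,4,5,6,0,2,3,4,5,1,3,4,2,3,0,2,1,3,4,5,
    6,7],[5,6,7,2,1,3,4,5,6,0,2,3,4,5,1,3,4,2,3,0,2,1,3,4,5,6,7],[4,5,6,7,1,3,4,5,6,0,2,3,4,5,1,3,4,2,3,0,2,1,3,4,5,
    6,7],[4,5,6,7,2,3,4,5,6,0,2,3,4,5,1,3,4,2,3,0,2,1,3,4,5,6,7],[3,4,5,6,7,1,3,4,5,6,2,3,4,5,1,3,4,2,3,0,2,1,3,4,5,
    6,7],[6,5,4,3,2,1,3,4,5,6,0,2,3,4,5,1,3,4,2,3,0,2,1,3,4,5,6,7],[7,5,4,3,2,1,3,4,5,6,0,2,3,4,5,1,3,4,2,3,0,2,1,3,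
    4,5,6,7],[6,7,4,3,2,1,3,4,5,6,0,2,3,4,5,1,3,4,2,3,0,2,1,3,4,5,6,7],[5,6,7,3,2,1,3,4,5,6,0,2,3,4,5,1,3,4,2,3,0,2,
    1,3,4,5,6,7],[4,5,6,7,2,1,3,4,5,6,0,2,3,4,5,1,3,4,2,3,0,2,1,3,4,5,6,7],[3,4,5,6,7,1,3,4,5,6,0,2,3,4,5,1,3,4,2,3,
    0,2,1,3,4,5,6,7],[3,4,5,6,7,2,3,4,5,6,0,2,3,4,5,1,3,4,2,3,0,2,1,3,4,5,6,7],[2,3,4,5,6,7,1,3,4,5,6,2,3,4,5,1,3,4,
    2,3,0,2,1,3,4,5,6,7],[7,6,5,4,3,2,1,3,4,5,6,0,2,3,4,5,1,3,4,2,3,0,2,1,3,4,5,6,7],[6,7,5,4,3,2,1,3,4,5,6,0,2,3,4,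
    5,1,3,4,2,3,0,2,1,3,4,5,6,7],[5,6,7,4,3,2,1,3,4,5,6,0,2,3,4,5,1,3,4,2,3,0,2,1,3,4,5,6,7],[4,5,6,7,3,2,1,3,4,5,6,
    0,2,3,4,5,1,3,4,2,3,0,2,1,3,4,5,6,7],[3,4,5,6,7,2,1,3,4,5,6,0,2,3,4,5,1,3,4,2,3,0,2,1,3,4,5,6,7],[2,3,4,5,6,7,1,
    3,4,5,6,0,2,3,4,5,1,3,4,2,3,0,2,1,3,4,5,6,7],[1,3,4,5,6,7,2,3,4,5,6,0,2,3,4,5,1,3,4,2,3,0,2,1,3,4,5,6,7],[0,2,3,
    4,5,6,7,1,3,4,5,6,2,3,4,5,1,3,4,2,3,0,2,1,3,4,5,6,7],[6,7,6,5,4,3,2,1,3,4,5,6,0,2,3,4,5,1,3,4,2,3,0,2,1,3,4,5,6,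
    7],[5,6,7,5,4,3,2,1,3,4,5,6,0,2,3,4,5,1,3,4,2,3,0,2,1,3,4,5,6,7],[4,5,6,7,4,3,2,1,3,4,5,6,0,2,3,4,5,1,3,4,2,3,0,
    2,1,3,4,5,6,7],[3,4,5,6,7,3,2,1,3,4,5,6,0,2,3,4,5,1,3,4,2,3,0,2,1,3,4,5,6,7],[1,3,4,5,6,7,2,1,3,4,5,6,0,2,3,4,5,
    1,3,4,2,3,0,2,1,3,4,5,6,7],[2,3,4,5,6,7,2,1,3,4,5,6,0,2,3,4,5,1,3,4,2,3,0,2,1,3,4,5,6,7],[0,2,3,4,5,6,7,1,3,4,5,
    6,0,2,3,4,5,1,3,4,2,3,0,2,1,3,4,5,6,7],[5,6,7,6,5,4,3,2,1,3,4,5,6,0,2,3,4,5,1,3,4,2,3,0,2,1,3,4,5,6,7],[4,5,6,7,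
    5,4,3,2,1,3,4,5,6,0,2,3,4,5,1,3,4,2,3,0,2,1,3,4,5,6,7],[3,4,5,6,7,4,3,2,1,3,4,5,6,0,2,3,4,5,1,3,4,2,3,0,2,1,3,4,
    5,6,7],[1,3,4,5,6,7,3,2,1,3,4,5,6,0,2,3,4,5,1,3,4,2,3,0,2,1,3,4,5,6,7],[2,3,4,5,6,7,3,2,1,3,4,5,6,0,2,3,4,5,1,3,
    4,2,3,0,2,1,3,4,5,6,7],[2,1,3,4,5,6,7,2,1,3,4,5,6,0,2,3,4,5,1,3,4,2,3,0,2,1,3,4,5,6,7],[0,2,3,4,5,6,7,2,1,3,4,5,
    6,0,2,3,4,5,1,3,4,2,3,0,2,1,3,4,5,6,7],[4,5,6,7,6,5,4,3,2,1,3,4,5,6,0,2,3,4,5,1,3,4,2,3,0,2,1,3,4,5,6,7],[3,4,5,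
    6,7,5,4,3,2,1,3,4,5,6,0,2,3,4,5,1,3,4,2,3,0,2,1,3,4,5,6,7],[1,3,4,5,6,7,4,3,2,1,3,4,5,6,0,2,3,4,5,1,3,4,2,3,0,2,
    1,3,4,5,6,7],[2,3,4,5,6,7,4,3,2,1,3,4,5,6,0,2,3,4,5,1,3,4,2,3,0,2,1,3,4,5,6,7],[2,1,3,4,5,6,7,3,2,1,3,4,5,6,0,2,
    3,4,5,1,3,4,2,3,0,2,1,3,4,5,6,7],[0,2,3,4,5,6,7,3,2,1,3,4,5,6,0,2,3,4,5,1,3,4,2,3,0,2,1,3,4,5,6,7],[0,2,1,3,4,5,
    6,7,2,1,3,4,5,6,0,2,3,4,5,1,3,4,2,3,0,2,1,3,4,5,6,7],[3,4,5,6,7,6,5,4,3,2,1,3,4,5,6,0,2,3,4,5,1,3,4,2,3,0,2,1,3,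
    4,5,6,7],[1,3,4,5,6,7,5,4,3,2,1,3,4,5,6,0,2,3,4,5,1,3,4,2,3,0,2,1,3,4,5,6,7],[2,3,4,5,6,7,5,4,3,2,1,3,4,5,6,0,2,
    3,4,5,1,3,4,2,3,0,2,1,3,4,5,6,7],[2,1,3,4,5,6,7,4,3,2,1,3,4,5,6,0,2,3,4,5,1,3,4,2,3,0,2,1,3,4,5,6,7],[0,2,3,4,5,
    6,7,4,3,2,1,3,4,5,6,0,2,3,4,5,1,3,4,2,3,0,2,1,3,4,5,6,7],[0,2,1,3,4,5,6,7,3,2,1,3,4,5,6,0,2,3,4,5,1,3,4,2,3,0,2,
    1,3,4,5,6,7],[3,2,1,3,4,5,6,7,3,2,1,3,4,5,6,0,2,3,4,5,1,3,4,2,3,0,2,1,3,4,5,6,7],[1,3,4,5,6,7,6,5,4,3,2,1,3,4,5,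
    6,0,2,3,4,5,1,3,4,2,3,0,2,1,3,4,5,6,7],[2,3,4,5,6,7,6,5,4,3,2,1,3,4,5,6,0,2,3,4,5,1,3,4,2,3,0,2,1,3,4,5,6,7],[2,
    1,3,4,5,6,7,5,4,3,2,1,3,4,5,6,0,2,3,4,5,1,3,4,2,3,0,2,1,3,4,5,6,7],[0,2,3,4,5,6,7,5,4,3,2,1,3,4,5,6,0,2,3,4,5,1,
    3,4,2,3,0,2,1,3,4,5,6,7],[0,2,1,3,4,5,6,7,4,3,2,1,3,4,5,6,0,2,3,4,5,1,3,4,2,3,0,2,1,3,4,5,6,7],[3,2,1,3,4,5,6,7,
    4,3,2,1,3,4,5,6,0,2,3,4,5,1,3,4,2,3,0,2,1,3,4,5,6,7],[3,0,2,1,3,4,5,6,7,3,2,1,3,4,5,6,0,2,3,4,5,1,3,4,2,3,0,2,1,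
    3,4,5,6,7],[2,1,3,4,5,6,7,6,5,4,3,2,1,3,4,5,6,0,2,3,4,5,1,3,4,2,3,0,2,1,3,4,5,6,7],[0,2,3,4,5,6,7,6,5,4,3,2,1,3,
    4,5,6,0,2,3,4,5,1,3,4,2,3,0,2,1,3,4,5,6,7],[0,2,1,3,4,5,6,7,5,4,3,2,1,3,4,5,6,0,2,3,4,5,1,3,4,2,3,0,2,1,3,4,5,6,
    7],[3,2,1,3,4,5,6,7,5,4,3,2,1,3,4,5,6,0,2,3,4,5,1,3,4,2,3,0,2,1,3,4,5,6,7],[3,0,2,1,3,4,5,6,7,4,3,2,1,3,4,5,6,0,
    2,3,4,5,1,3,4,2,3,0,2,1,3,4,5,6,7],[4,3,2,1,3,4,5,6,7,4,3,2,1,3,4,5,6,0,2,3,4,5,1,3,4,2,3,0,2,1,3,4,5,6,7],[2,3,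
    0,2,1,3,4,5,6,7,3,2,1,3,4,5,6,0,2,3,4,5,1,3,4,2,3,0,2,1,3,4,5,6,7],[0,2,1,3,4,5,6,7,6,5,4,3,2,1,3,4,5,6,0,2,3,4,
    5,1,3,4,2,3,0,2,1,3,4,5,6,7],[3,2,1,3,4,5,6,7,6,5,4,3,2,1,3,4,5,6,0,2,3,4,5,1,3,4,2,3,0,2,1,3,4,5,6,7],[3,0,2,1,
    3,4,5,6,7,5,4,3,2,1,3,4,5,6,0,2,3,4,5,1,3,4,2,3,0,2,1,3,4,5,6,7],[4,3,2,1,3,4,5,6,7,5,4,3,2,1,3,4,5,6,0,2,3,4,5,
    1,3,4,2,3,0,2,1,3,4,5,6,7],[2,3,0,2,1,3,4,5,6,7,4,3,2,1,3,4,5,6,0,2,3,4,5,1,3,4,2,3,0,2,1,3,4,5,6,7],[4,3,0,2,1,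
    3,4,5,6,7,4,3,2,1,3,4,5,6,0,2,3,4,5,1,3,4,2,3,0,2,1,3,4,5,6,7],[3,0,2,1,3,4,5,6,7,6,5,4,3,2,1,3,4,5,6,0,2,3,4,5,
    1,3,4,2,3,0,2,1,3,4,5,6,7],[4,3,2,1,3,4,5,6,7,6,5,4,3,2,1,3,4,5,6,0,2,3,4,5,1,3,4,2,3,0,2,1,3,4,5,6,7],[2,3,0,2,
    1,3,4,5,6,7,5,4,3,2,1,3,4,5,6,0,2,3,4,5,1,3,4,2,3,0,2,1,3,4,5,6,7],[4,3,0,2,1,3,4,5,6,7,5,4,3,2,1,3,4,5,6,0,2,3,
    4,5,1,3,4,2,3,0,2,1,3,4,5,6,7],[5,4,3,2,1,3,4,5,6,7,5,4,3,2,1,3,4,5,6,0,2,3,4,5,1,3,4,2,3,0,2,1,3,4,5,6,7],[4,2,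
    3,0,2,1,3,4,5,6,7,4,3,2,1,3,4,5,6,0,2,3,4,5,1,3,4,2,3,0,2,1,3,4,5,6,7],[2,3,0,2,1,3,4,5,6,7,6,5,4,3,2,1,3,4,5,6,
    0,2,3,4,5,1,3,4,2,3,0,2,1,3,4,5,6,7],[4,3,0,2,1,3,4,5,6,7,6,5,4,3,2,1,3,4,5,6,0,2,3,4,5,1,3,4,2,3,0,2,1,3,4,5,6,
    7],[5,4,3,2,1,3,4,5,6,7,6,5,4,3,2,1,3,4,5,6,0,2,3,4,5,1,3,4,2,3,0,2,1,3,4,5,6,7],[4,2,3,0,2,1,3,4,5,6,7,5,4,3,2,
    1,3,4,5,6,0,2,3,4,5,1,3,4,2,3,0,2,1,3,4,5,6,7],[5,4,3,0,2,1,3,4,5,6,7,5,4,3,2,1,3,4,5,6,0,2,3,4,5,1,3,4,2,3,0,2,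
    1,3,4,5,6,7],[3,4,2,3,0,2,1,3,4,5,6,7,4,3,2,1,3,4,5,6,0,2,3,4,5,1,3,4,2,3,0,2,1,3,4,5,6,7],[4,2,3,0,2,1,3,4,5,6,
    7,6,5,4,3,2,1,3,4,5,6,0,2,3,4,5,1,3,4,2,3,0,2,1,3,4,5,6,7],[5,4,3,0,2,1,3,4,5,6,7,6,5,4,3,2,1,3,4,5,6,0,2,3,4,5,
    1,3,4,2,3,0,2,1,3,4,5,6,7],[6,5,4,3,2,1,3,4,5,6,7,6,5,4,3,2,1,3,4,5,6,0,2,3,4,5,1,3,4,2,3,0,2,1,3,4,5,6,7],[3,4,
    2,3,0,2,1,3,4,5,6,7,5,4,3,2,1,3,4,5,6,0,2,3,4,5,1,3,4,2,3,0,2,1,3,4,5,6,7],[5,4,2,3,0,2,1,3,4,5,6,7,5,4,3,2,1,3,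
    4,5,6,0,2,3,4,5,1,3,4,2,3,0,2,1,3,4,5,6,7],[1,3,4,2,3,0,2,1,3,4,5,6,7,4,3,2,1,3,4,5,6,0,2,3,4,5,1,3,4,2,3,0,2,1,
    3,4,5,6,7],[3,4,2,3,0,2,1,3,4,5,6,7,6,5,4,3,2,1,3,4,5,6,0,2,3,4,5,1,3,4,2,3,0,2,1,3,4,5,6,7],[5,4,2,3,0,2,1,3,4,
    5,6,7,6,5,4,3,2,1,3,4,5,6,0,2,3,4,5,1,3,4,2,3,0,2,1,3,4,5,6,7],[6,5,4,3,0,2,1,3,4,5,6,7,6,5,4,3,2,1,3,4,5,6,0,2,
    3,4,5,1,3,4,2,3,0,2,1,3,4,5,6,7],[1,3,4,2,3,0,2,1,3,4,5,6,7,5,4,3,2,1,3,4,5,6,0,2,3,4,5,1,3,4,2,3,0,2,1,3,4,5,6,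
    7],[5,3,4,2,3,0,2,1,3,4,5,6,7,5,4,3,2,1,3,4,5,6,0,2,3,4,5,1,3,4,2,3,0,2,1,3,4,5,6,7],[1,3,4,2,3,0,2,1,3,4,5,6,7,
    6,5,4,3,2,1,3,4,5,6,0,2,3,4,5,1,3,4,2,3,0,2,1,3,4,5,6,7],[5,3,4,2,3,0,2,1,3,4,5,6,7,6,5,4,3,2,1,3,4,5,6,0,2,3,4,
    5,1,3,4,2,3,0,2,1,3,4,5,6,7],[6,5,4,2,3,0,2,1,3,4,5,6,7,6,5,4,3,2,1,3,4,5,6,0,2,3,4,5,1,3,4,2,3,0,2,1,3,4,5,6,7],
    [5,1,3,4,2,3,0,2,1,3,4,5,6,7,5,4,3,2,1,3,4,5,6,0,2,3,4,5,1,3,4,2,3,0,2,1,3,4,5,6,7],[4,5,3,4,2,3,0,2,1,3,4,5,6,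
    7,5,4,3,2,1,3,4,5,6,0,2,3,4,5,1,3,4,2,3,0,2,1,3,4,5,6,7],[5,1,3,4,2,3,0,2,1,3,4,5,6,7,6,5,4,3,2,1,3,4,5,6,0,2,3,
    4,5,1,3,4,2,3,0,2,1,3,4,5,6,7],[4,5,3,4,2,3,0,2,1,3,4,5,6,7,6,5,4,3,2,1,3,4,5,6,0,2,3,4,5,1,3,4,2,3,0,2,1,3,4,5,
    6,7],[6,5,3,4,2,3,0,2,1,3,4,5,6,7,6,5,4,3,2,1,3,4,5,6,0,2,3,4,5,1,3,4,2,3,0,2,1,3,4,5,6,7],[4,5,1,3,4,2,3,0,2,1,
    3,4,5,6,7,5,4,3,2,1,3,4,5,6,0,2,3,4,5,1,3,4,2,3,0,2,1,3,4,5,6,7],[4,5,1,3,4,2,3,0,2,1,3,4,5,6,7,6,5,4,3,2,1,3,4,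
    5,6,0,2,3,4,5,1,3,4,2,3,0,2,1,3,4,5,6,7],[6,5,1,3,4,2,3,0,2,1,3,4,5,6,7,6,5,4,3,2,1,3,4,5,6,0,2,3,4,5,1,3,4,2,3,
    0,2,1,3,4,5,6,7],[6,4,5,3,4,2,3,0,2,1,3,4,5,6,7,6,5,4,3,2,1,3,4,5,6,0,2,3,4,5,1,3,4,2,3,0,2,1,3,4,5,6,7],[3,4,5,
    1,3,4,2,3,0,2,1,3,4,5,6,7,5,4,3,2,1,3,4,5,6,0,2,3,4,5,1,3,4,2,3,0,2,1,3,4,5,6,7],[3,4,5,1,3,4,2,3,0,2,1,3,4,5,6,
    7,6,5,4,3,2,1,3,4,5,6,0,2,3,4,5,1,3,4,2,3,0,2,1,3,4,5,6,7],[6,4,5,1,3,4,2,3,0,2,1,3,4,5,6,7,6,5,4,3,2,1,3,4,5,6,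
    0,2,3,4,5,1,3,4,2,3,0,2,1,3,4,5,6,7],[5,6,4,5,3,4,2,3,0,2,1,3,4,5,6,7,6,5,4,3,2,1,3,4,5,6,0,2,3,4,5,1,3,4,2,3,0,
    2,1,3,4,5,6,7],[2,3,4,5,1,3,4,2,3,0,2,1,3,4,5,6,7,5,4,3,2,1,3,4,5,6,0,2,3,4,5,1,3,4,2,3,0,2,1,3,4,5,6,7],[2,3,4,
    5,1,3,4,2,3,0,2,1,3,4,5,6,7,6,5,4,3,2,1,3,4,5,6,0,2,3,4,5,1,3,4,2,3,0,2,1,3,4,5,6,7],[6,3,4,5,1,3,4,2,3,0,2,1,3,
    4,5,6,7,6,5,4,3,2,1,3,4,5,6,0,2,3,4,5,1,3,4,2,3,0,2,1,3,4,5,6,7],[5,6,4,5,1,3,4,2,3,0,2,1,3,4,5,6,7,6,5,4,3,2,1,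
    3,4,5,6,0,2,3,4,5,1,3,4,2,3,0,2,1,3,4,5,6,7],[0,2,3,4,5,1,3,4,2,3,0,2,1,3,4,5,6,7,5,4,3,2,1,3,4,5,6,0,2,3,4,5,1,
    3,4,2,3,0,2,1,3,4,5,6,7],[0,2,3,4,5,1,3,4,2,3,0,2,1,3,4,5,6,7,6,5,4,3,2,1,3,4,5,6,0,2,3,4,5,1,3,4,2,3,0,2,1,3,4,
    5,6,7],[6,2,3,4,5,1,3,4,2,3,0,2,1,3,4,5,6,7,6,5,4,3,2,1,3,4,5,6,0,2,3,4,5,1,3,4,2,3,0,2,1,3,4,5,6,7],[5,6,3,4,5,
    1,3,4,2,3,0,2,1,3,4,5,6,7,6,5,4,3,2,1,3,4,5,6,0,2,3,4,5,1,3,4,2,3,0,2,1,3,4,5,6,7],[6,0,2,3,4,5,1,3,4,2,3,0,2,1,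
    3,4,5,6,7,6,5,4,3,2,1,3,4,5,6,0,2,3,4,5,1,3,4,2,3,0,2,1,3,4,5,6,7],[5,6,2,3,4,5,1,3,4,2,3,0,2,1,3,4,5,6,7,6,5,4,
    3,2,1,3,4,5,6,0,2,3,4,5,1,3,4,2,3,0,2,1,3,4,5,6,7],[4,5,6,3,4,5,1,3,4,2,3,0,2,1,3,4,5,6,7,6,5,4,3,2,1,3,4,5,6,0,
    2,3,4,5,1,3,4,2,3,0,2,1,3,4,5,6,7],[5,6,0,2,3,4,5,1,3,4,2,3,0,2,1,3,4,5,6,7,6,5,4,3,2,1,3,4,5,6,0,2,3,4,5,1,3,4,
    2,3,0,2,1,3,4,5,6,7],[4,5,6,2,3,4,5,1,3,4,2,3,0,2,1,3,4,5,6,7,6,5,4,3,2,1,3,4,5,6,0,2,3,4,5,1,3,4,2,3,0,2,1,3,4,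
    5,6,7],[4,5,6,0,2,3,4,5,1,3,4,2,3,0,2,1,3,4,5,6,7,6,5,4,3,2,1,3,4,5,6,0,2,3,4,5,1,3,4,2,3,0,2,1,3,4,5,6,7],[3,4,
    5,6,2,3,4,5,1,3,4,2,3,0,2,1,3,4,5,6,7,6,5,4,3,2,1,3,4,5,6,0,2,3,4,5,1,3,4,2,3,0,2,1,3,4,5,6,7],[3,4,5,6,0,2,3,4,
    5,1,3,4,2,3,0,2,1,3,4,5,6,7,6,5,4,3,2,1,3,4,5,6,0,2,3,4,5,1,3,4,2,3,0,2,1,3,4,5,6,7],[1,3,4,5,6,2,3,4,5,1,3,4,2,
    3,0,2,1,3,4,5,6,7,6,5,4,3,2,1,3,4,5,6,0,2,3,4,5,1,3,4,2,3,0,2,1,3,4,5,6,7],[1,3,4,5,6,0,2,3,4,5,1,3,4,2,3,0,2,1,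
    3,4,5,6,7,6,5,4,3,2,1,3,4,5,6,0,2,3,4,5,1,3,4,2,3,0,2,1,3,4,5,6,7],[2,3,4,5,6,0,2,3,4,5,1,3,4,2,3,0,2,1,3,4,5,6,
    7,6,5,4,3,2,1,3,4,5,6,0,2,3,4,5,1,3,4,2,3,0,2,1,3,4,5,6,7],[2,1,3,4,5,6,0,2,3,4,5,1,3,4,2,3,0,2,1,3,4,5,6,7,6,5,
    4,3,2,1,3,4,5,6,0,2,3,4,5,1,3,4,2,3,0,2,1,3,4,5,6,7],[3,2,1,3,4,5,6,0,2,3,4,5,1,3,4,2,3,0,2,1,3,4,5,6,7,6,5,4,3,
    2,1,3,4,5,6,0,2,3,4,5,1,3,4,2,3,0,2,1,3,4,5,6,7],[4,3,2,1,3,4,5,6,0,2,3,4,5,1,3,4,2,3,0,2,1,3,4,5,6,7,6,5,4,3,2,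
    1,3,4,5,6,0,2,3,4,5,1,3,4,2,3,0,2,1,3,4,5,6,7],[5,4,3,2,1,3,4,5,6,0,2,3,4,5,1,3,4,2,3,0,2,1,3,4,5,6,7,6,5,4,3,2,
    1,3,4,5,6,0,2,3,4,5,1,3,4,2,3,0,2,1,3,4,5,6,7],[6,5,4,3,2,1,3,4,5,6,0,2,3,4,5,1,3,4,2,3,0,2,1,3,4,5,6,7,6,5,4,3,
    2,1,3,4,5,6,0,2,3,4,5,1,3,4,2,3,0,2,1,3,4,5,6,7],[7,6,5,4,3,2,1,3,4,5,6,0,2,3,4,5,1,3,4,2,3,0,2,1,3,4,5,6,7,6,5,
    4,3,2,1,3,4,5,6,0,2,3,4,5,1,3,4,2,3,0,2,1,3,4,5,6,7]]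

/-- their successors -/
def nextE8_7 : List (List ℕ) :=
  [[240,241,242,243,244,245,246,1],[240,241,242,243,244,245,2,0],[240,241,242,243,244,3,1,246],[240,241,242,243,4,
    2,245,246],[240,241,242,5,3,244,245,246],[240,6,7,4,243,244,245,246],[240,5,8,241,243,244,245,246],[9,8,5,242,243,
    244,245,246],[10,7,6,11,243,244,245,246],[7,10,240,242,243,244,245,246],[8,9,240,12,243,244,245,246],[12,242,241,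
    8,13,244,245,246],[11,242,14,10,15,244,245,246],[15,242,241,243,11,16,245,246],[241,242,12,240,17,244,245,246],
    [13,242,17,243,12,18,245,246],[18,242,241,243,244,13,19,246],[241,242,15,20,14,21,245,246],[16,242,21,243,244,15,
    22,246],[22,242,241,243,244,245,16,23],[241,24,243,17,240,25,245,246],[241,242,18,25,244,17,26,246],[19,242,26,
    243,244,245,18,27],[27,242,241,243,244,245,246,19],[241,20,243,242,240,28,245,246],[241,28,243,21,29,20,30,246],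
    [241,242,22,30,244,245,21,31],[23,242,31,243,244,245,246,22],[241,25,243,242,32,24,33,246],[241,32,243,244,25,240,
    34,246],[241,33,243,26,34,245,25,35],[241,242,27,35,244,245,246,26],[241,29,243,36,28,240,37,246],[241,30,243,242,
    37,245,28,38],[241,37,243,244,30,39,29,40],[241,38,243,31,40,245,246,30],[241,244,41,32,242,240,42,246],[241,34,
    243,42,33,43,32,44],[241,35,243,242,44,245,246,33],[241,43,243,244,245,34,240,45],[241,44,243,244,35,45,246,34],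
    [46,244,36,243,242,240,47,246],[241,244,47,37,242,48,36,49],[241,39,243,48,245,37,240,50],[241,40,243,49,38,50,
    246,37],[241,50,243,244,245,40,51,39],[41,244,241,243,242,240,52,246],[52,244,42,243,242,53,41,54],[241,244,53,
    43,55,42,240,56],[241,244,54,44,242,56,246,42],[241,45,243,56,245,44,57,43],[241,57,243,244,245,246,45,240],[47,
    244,241,243,242,58,46,59],[58,244,48,243,60,47,240,61],[59,244,49,243,242,61,246,47],[241,244,60,245,48,242,240,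
    62],[241,244,61,50,62,49,63,48],[241,51,243,63,245,246,50,240],[53,244,241,243,64,52,240,65],[54,244,241,243,242,
    65,246,52],[64,244,55,66,53,242,240,67],[65,244,56,243,67,54,68,53],[241,244,67,245,56,242,69,55],[241,244,68,57,
    69,246,56,240],[60,244,241,70,58,242,240,71],[61,244,241,243,71,59,72,58],[70,73,245,60,243,242,240,74],[71,244,
    62,74,61,242,75,60],[72,244,63,243,75,246,61,240],[241,244,75,245,63,76,62,240],[66,77,78,64,243,242,240,79],[67,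
    244,241,79,65,242,80,64],[68,244,241,243,80,246,65,240],[77,66,245,244,243,242,240,81],[79,81,245,67,243,242,82,
    66],[80,244,69,82,68,83,67,240],[241,244,83,245,246,69,242,240],[73,70,84,244,243,242,240,85],[245,84,70,241,243,
    242,240,86],[74,85,86,71,243,242,87,70],[75,244,241,87,72,88,71,240],[85,74,245,244,243,242,89,73],[87,89,245,75,
    243,90,74,240],[88,244,76,90,246,75,242,240],[245,78,77,91,243,242,240,92],[81,79,92,244,243,242,93,77],[245,92,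
    79,241,243,242,94,78],[82,93,94,80,243,95,79,240],[83,244,241,95,246,80,242,240],[93,82,245,244,243,96,81,240],
    [95,96,245,83,97,82,242,240],[245,241,244,84,98,242,240,99],[245,86,85,99,243,242,100,84],[89,87,100,244,243,101,
    85,240],[245,100,87,241,243,102,86,240],[90,101,102,88,103,87,242,240],[101,90,245,244,104,89,242,240],[103,104,
    245,246,90,243,242,240],[245,241,244,243,91,105,240,106],[245,241,244,92,106,242,107,91],[245,94,93,107,243,108,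
    92,240],[96,95,108,244,109,93,242,240],[245,108,95,241,110,94,242,240],[97,109,110,246,95,243,242,240],[109,97,
    245,111,96,243,242,240],[245,241,244,243,242,98,112,113],[245,241,244,243,99,113,114,98],[245,241,244,100,114,115,
    99,240],[245,102,101,115,116,100,242,240],[104,103,116,117,101,243,242,240],[245,116,103,118,102,243,242,240],[117,
    246,119,104,244,243,242,240],[245,241,244,243,242,240,105,120],[245,241,244,243,242,106,121,105],[245,241,244,243,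
    107,122,106,240],[245,241,244,108,123,107,242,240],[245,110,109,124,108,243,242,240],[111,246,125,109,244,243,242,
    240],[245,126,246,110,241,243,242,240],[127,246,111,245,244,243,242,240],[245,241,244,243,242,240,128,112],[245,
    241,244,243,242,129,113,128],[245,241,244,243,130,114,129,240],[245,241,244,131,115,130,242,240],[245,132,133,116,
    131,243,242,240],[134,246,117,133,244,243,242,240],[245,118,246,132,241,243,242,240],[119,246,134,245,244,243,242,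
    240],[245,241,244,243,242,135,120,121],[245,241,244,243,136,121,122,135],[245,241,244,137,122,123,136,240],[245,
    138,139,123,124,137,242,240],[245,124,140,126,138,243,242,240],[141,140,124,125,139,243,242,240],[125,246,127,141,
    244,243,242,240],[245,241,244,243,142,128,240,129],[245,241,244,143,129,242,130,142],[245,144,145,130,243,131,143,
    240],[245,131,146,241,132,144,242,240],[147,146,131,244,133,145,242,240],[148,133,132,246,146,243,242,240],[133,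
    148,245,134,147,243,242,240],[245,241,244,149,135,242,240,136],[245,150,151,136,243,242,137,149],[245,137,152,241,
    243,138,150,240],[153,152,137,244,243,139,151,240],[154,139,138,155,140,152,242,240],[139,154,245,244,141,153,242,
    240],[140,141,245,246,154,243,242,240],[245,156,157,142,243,242,240,143],[245,143,158,241,243,242,144,156],[159,
    158,143,244,243,242,145,157],[160,145,144,161,243,146,158,240],[145,160,245,244,243,147,159,240],[146,147,245,162,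
    148,160,242,240],[162,244,241,146,246,161,242,240],[245,149,163,241,243,242,240,150],[164,163,149,244,243,242,240,
    151],[165,151,150,166,243,242,152,163],[151,165,245,244,243,242,153,164],[152,153,245,167,243,154,165,240],[167,
    244,241,152,168,155,166,240],[155,244,169,154,246,167,242,240],[170,157,156,171,243,242,240,158],[157,170,245,244,
    243,242,240,159],[158,159,245,172,243,242,160,170],[172,244,241,158,173,242,161,171],[161,244,174,160,175,162,172,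
    240],[175,244,241,243,161,246,173,240],[241,244,162,245,246,174,242,240],[163,164,245,176,243,242,240,165],[176,
    244,241,163,177,242,240,166],[166,244,178,165,179,242,167,176],[179,244,241,243,166,180,168,177],[241,244,167,245,
    181,169,178,240],[168,244,181,243,167,246,179,240],[171,244,182,170,183,242,240,172],[183,244,241,243,171,184,240,
    173],[241,244,172,245,185,242,174,182],[173,244,185,243,172,186,175,183],[186,244,241,243,242,173,246,184],[241,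
    244,175,187,174,246,185,240],[241,244,176,245,188,242,240,178],[177,244,188,243,176,189,240,179],[189,244,241,243,
    242,177,190,180],[241,244,179,191,178,192,181,188],[180,244,192,243,242,179,246,189],[241,193,243,181,245,246,191,
    240],[241,244,183,194,182,195,240,185],[184,244,195,243,242,183,196,186],[196,244,241,243,242,240,184,246],[241,
    197,243,185,245,198,187,194],[241,244,186,198,242,185,246,195],[241,187,243,244,245,246,197,240],[241,199,243,188,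
    245,200,240,191],[241,244,189,200,242,188,201,192],[190,244,201,243,242,240,189,246],[241,191,243,244,245,202,193,
    199],[241,202,243,192,203,191,246,200],[241,194,243,244,245,204,240,197],[241,204,243,195,205,194,206,198],[241,
    244,196,206,242,240,195,246],[241,198,243,244,207,197,246,204],[241,207,243,242,198,245,246,205],[241,200,243,244,
    208,199,209,202],[241,208,243,242,200,245,210,203],[241,209,243,201,210,240,200,246],[241,203,243,211,202,245,246,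
    208],[241,205,243,212,204,245,213,207],[241,206,243,244,213,240,204,246],[241,213,243,242,206,214,205,246],[241,
    242,215,207,244,245,246,212],[241,242,216,208,244,245,217,211],[241,210,243,217,209,218,208,246],[241,218,243,242,
    240,210,245,246],[219,242,211,243,244,245,246,216],[220,242,212,243,244,245,221,215],[241,242,221,213,244,222,212,
    246],[241,214,243,222,240,213,245,246],[215,242,241,243,244,245,246,220],[216,242,241,243,244,245,223,219],[223,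
    242,217,243,244,224,216,246],[241,242,224,218,225,217,245,246],[221,242,241,243,244,226,220,246],[226,242,222,243,
    227,221,245,246],[241,242,227,240,222,244,245,246],[224,242,241,243,228,223,245,246],[228,242,225,229,224,244,245,
    246],[227,242,241,230,226,244,245,246],[230,231,240,227,243,244,245,246],[229,232,233,228,243,244,245,246],[232,
    229,240,242,243,244,245,246],[231,230,234,242,243,244,245,246],[240,234,230,241,243,244,245,246],[240,233,232,235,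
    243,244,245,246],[240,241,242,234,236,244,245,246],[240,241,242,243,235,237,245,246],[240,241,242,243,244,236,238,
    246],[240,241,242,243,244,245,237,239],[240,241,242,243,244,245,246,238]]

/-- all steps -/
def stepsE8 : List (List (List ℕ) × List (List ℕ)) :=
  [(repsE8_0, nextE8_0),
    (repsE8_1, nextE8_1),
    (repsE8_2, nextE8_2),
    (repsE8_3, nextE8_3),
    (repsE8_4, nextE8_4),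
    (repsE8_5, nextE8_5),
    (repsE8_6, nextE8_6),
    (repsE8_7, nextE8_7)]

end Cfsg.Lib.Chev
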