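/-
Coxeter presentations of the Weyl groups, their orders, Coxeter elements; `N/H`.
-/
import Cfsg.Agent.Lib.Chev.OrderData

set_option autoImplicit false

namespace Cfsg.Lib.Chev

open Cfsg.Lie Cfsg.Lib.LieBN

variable {D : ChevalleyDatum} {A : Aux} (hc : Cert D A)

include hc in
theorem card_coxeter (M : CoxeterMatrix (Fin D.rank))
    (hM : ∀ i j : Fin D.rank, ordOK D A i j (M i j) = true)
    {S : List (List (List ℕ) × List (List ℕ))} (hS : stepsOK D A S = true) :
    Nat.card M.Group = (S.map fun p => p.1.length).prod := by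
  obtain ⟨e, -⟩ := exists_coxeter_equiv hc M hM
  rw [← Nat.card_congr e.toEquiv, card_Wgrp hc, poincare_eq_prod hc hS 1]
  congr 1
  exact List.map_congr_left fun p _ => by simp

/-- iterates of a word -/
def iterWord (A : Aux) (L : List ℕ) : ℕ → ℕ → ℕ
  | 0, s => s
  | m + 1, s => wordApp A L (iterWord A L m s)

/-- the product of all fundamental reflections has order `h` -/
def coxOK (D : ChevalleyDatum) (A : Aux) (h : ℕ) : Bool :=
  Nat.blt 0 h && (allB D.nroots fun s => Nat.beq (iterWord A (List.range D.rank) h s) s) &&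
    allB h fun k => (k == 0) ||
      (List.range D.nroots).any fun s => !(Nat.beq (iterWord A (List.range D.rank) k s) s)

include hc in
theorem orderOf_coxeter_element (M : CoxeterMatrix (Fin D.rank))
    (hM : ∀ i j : Fin D.rank, ordOK D A i j (M i j) = true) {h : ℕ} (hh : coxOK D A h = true) :
    orderOf ((List.finRange D.rank).map M.simple).prod = h := by
  obtain ⟨e, he⟩ := exists_coxeter_equiv hc M hM
  have e1 : ((List.finRange D.rank).map M.simple).prod = e (wprod (sW hc) (List.finRange D.rank)) := by
    rw [wprod, map_list_prod, List.map_map]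
    congr 1
    exact List.map_congr_left fun i _ => (he i).symm
  have e2 : orderOf (e (wprod (sW hc) (List.finRange D.rank))) = orderOf (wp hc (List.finRange D.rank)) := by
    rw [e.orderOf_eq, ← orderOf_injective (Wgrp hc).subtype Subtype.val_injective, Subgroup.coe_subtype,
      coe_wprod_sW]
  rw [e1, e2]
  have hw : toWord D (List.range D.rank) = List.finRange D.rank := by
    rw [← List.map_coe_finRange_eq_range, toWord, List.filterMap_map]
    simp [Function.comp_def]
  have hiter : ∀ (m : ℕ) (s : Fin D.nroots), iterWord A (List.range D.rank) m s =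
      (((wp hc (List.finRange D.rank)) ^ m) s : Fin D.nroots) := by
    intro m
    induction m with
    | zero => intro s; simp [iterWord]
    | succ m ih =>
      intro s
      rw [iterWord, ih, wordApp_eq hc (fun i hi => List.mem_range.1 hi), hw, pow_succ']
      rfl
  simp only [coxOK, Bool.and_eq_true, Nat.blt_eq, allB_iff, Bool.or_eq_true, beq_iff_eq, List.any_eq_true,
    List.mem_range, Bool.not_eq_true', Nat.beq_eq] at hh
  obtain ⟨⟨h0, hid⟩, hmin⟩ := hh
  rw [orderOf_eq_iff h0]
  refine ⟨Equiv.ext fun s => Fin.ext ?_, fun k hk hk0 e3 => ?_⟩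
  · rw [← hiter, hid s s.2]; rfl
  · rcases hmin k hk with hk' | ⟨s, hs, hne⟩
    · omega
    · have : iterWord A (List.range D.rank) k s = s := by
        have := hiter k ⟨s, hs⟩; rw [e3] at this; exact this
      simp [this] at hne

include hc in
theorem monomial_quot {F : Type*} [Field F] (M : CoxeterMatrix (Fin D.rank))
    (hM : ∀ i j : Fin D.rank, ordOK D A i j (M i j) = true) :
    ∃ φ : ↥(D.monomialSubgroup F) →* M.Group, Function.Surjective φ ∧
      φ.ker = (D.diagonalSubgroup F).subgroupOf (D.monomialSubgroup F) ∧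
      ∀ (i : Fin D.rank) (g : ↥(D.monomialSubgroup F)),
        ((g : GL D.Idx F) : Matrix D.Idx D.Idx F) = D.nMat F (D.simple i) 1 → φ g = M.simple i := by
  obtain ⟨e, he⟩ := exists_coxeter_equiv hc M hM
  let ψ : ↥(D.monomialSubgroup F) →* Wgrp hc := (permHom hc).codRestrict _ (permHom_mem hc)
  have hker : ψ.ker = (D.diagonalSubgroup F).subgroupOf (D.monomialSubgroup F) := by
    rw [MonoidHom.ker_codRestrict]; exact permHom_ker hc
  refine ⟨e.toMonoidHom.comp ψ, e.surjective.comp fun w => ?_, ?_, fun i g hg => ?_⟩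
  · obtain ⟨L, hL⟩ := (mem_Wgrp hc).1 w.2
    exact ⟨⟨wg D F L, wg_mem_N hc L⟩, Subtype.ext ((acts_permHom hc _).unique hc (hL ▸ acts_wg hc L))⟩
  · rw [← hker]; ext x; simp [MonoidHom.mem_ker]
  · have : ψ g = sW hc i := by
      refine Subtype.ext ((acts_permHom hc g).unique hc ?_)
      have hg' : (g : GL D.Idx F) = ng D F i :=
        Units.ext (hg.trans (coe_ngen hc (simple_lt hc i.2) 1).symm)
      rw [hg']
      exact acts_ng hc i
    show e (ψ g) = _
    rw [this, he]

theorem cox_G2 : coxOK chevG2 auxG2 6 = true := by decide +kernel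
theorem cox_B2 : coxOK chevB2 auxB2 4 = true := by decide +kernel
theorem cox_D4 : coxOK chevD4 auxD4 6 = true := by decide +kernel
theorem cox_F4 : coxOK chevF4 auxF4 12 = true := by decide +kernel
theorem cox_E6 : coxOK chevE6 auxE6 12 = true := by decide +kernel
theorem cox_E7 : coxOK chevE7 auxE7 18 = true := by decide +kernel
theorem cox_E8 : coxOK chevE8 auxE8 30 = true := by decide +kernel

end Cfsg.Lib.Chev
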