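/-
Perfectness criteria for Chevalley groups.
-/
import Cfsg.Agent.Lib.Chev.Misc

set_option autoImplicit false

namespace Cfsg.Lib.Chev

open Cfsg.Lie
open scoped commutatorElement

variable {D : ChevalleyDatum} {A : Aux} (hc : Cert D A) {F : Type*} [Field F]

include hc in
theorem xg_mem_comm_of_term {a b k : ℕ} {c : ℤ} (ha : a < D.nroots) (hb : b < D.nroots) (hk : k < D.nroots)
    (hne : b ≠ a) (hneg : b ≠ negI D a) (h : D.commTerms a b = [(k, c, 1, 1)]) (hc0 : (c : F) ≠ 0)
    (s : F) : xg D F k s ∈ ⁅D.group F, D.group F⁆ := by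
  have hf := comm_formula hc ha hb hne hneg (-(s / (c : F))) (1 : F)
  have e : xg D F b 1 * xg D F a (-(s / (c : F))) =
      xg D F a (-(s / (c : F))) * xg D F b 1 * xg D F k s := by
    refine Units.ext ?_
    simp only [Units.val_mul, coe_xg hc ha, coe_xg hc hb, coe_xg hc hk]
    rw [hf]
    simp [ChevalleyDatum.commWord, h, ChevalleyDatum.wordMat, mul_div_cancel₀ _ hc0]
  have e' : xg D F k s = ⁅(xg D F b (1 : F))⁻¹, (xg D F a (-(s / (c : F))))⁻¹⁆ := by
    rw [commutatorElement_def]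
    simp only [inv_inv, mul_assoc]
    rw [e]; group
  rw [e']
  exact Subgroup.commutator_mem_commutator (inv_mem (xg_mem_group hc hb _)) (inv_mem (xg_mem_group hc ha _))

include hc in
theorem xg_mem_comm_of_torus {i : ℕ} (hi : i < D.rank) {k : ℕ} (hk : k < D.nroots) (u : Fˣ)
    (hu : ((u ^ A.cA i k : Fˣ) : F) ≠ 1) (s : F) : xg D F k s ∈ ⁅D.group F, D.group F⁆ := by
  set v : F := ((u ^ A.cA i k : Fˣ) : F) with hv
  have hv1 : v - 1 ≠ 0 := sub_ne_zero.2 hu
  have hmem : hg D A i u ∈ D.group F := H_le_group hc (hg_mem hc hi u)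
  have hch : IsChar D (fun r => u ^ A.cA i r) := by
    convert isChar_torusVal hc (Function.update (1 : ℕ → Fˣ) i u) using 1
    funext r
    rw [torusVal, Finset.prod_eq_single i]
    · simp
    · intro k' _ hk'; simp [Function.update_of_ne hk']
    · intro h; exact absurd (Finset.mem_range.2 hi) h
  have e : xg D F k s = ⁅hg D A i u, xg D F k (s / (v - 1))⁆ := by
    rw [commutatorElement_def, hg, dg_conj_x hc hk hch, xg_inv hc hk, xg_add hc hk]
    congr 1
    rw [← hv]
    field_simp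
    ring
  rw [e]
  exact Subgroup.commutator_mem_commutator hmem (xg_mem_group hc hk _)

include hc in
theorem perfect_of_simple
    (h : ∀ i < D.rank, ∀ s : F, xg D F (D.simple i) s ∈ ⁅D.group F, D.group F⁆) :
    commutator ↥(D.group F) = ⊤ := by
  have key : D.group F ≤ ⁅D.group F, D.group F⁆ := by
    refine group_le hc fun r hr t => ?_
    obtain ⟨L, i, hL⟩ := exists_word_to hc ⟨r, hr⟩
    obtain ⟨-, c, -, hcx⟩ := acts_wg (F := F) hc L
    have h1 := hcx (sR hc i) (((c (sR hc i))⁻¹ : Fˣ) * t)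
    rw [hL, ← mul_assoc, ← Units.val_mul, mul_inv_cancel, Units.val_one, one_mul] at h1
    rw [← h1]
    have hn : wg D F L ∈ D.group F := N_le_group hc (wg_mem_N hc L)
    have hmap : (⁅D.group F, D.group F⁆).map (MulAut.conj (wg D F L)).toMonoidHom ≤
        ⁅D.group F, D.group F⁆ := by
      rw [Subgroup.map_commutator]
      refine Subgroup.commutator_mono ?_ ?_ <;>
      · rintro _ ⟨x, hx, rfl⟩
        exact mul_mem (mul_mem hn hx) (inv_mem hn)
    exact hmap ⟨_, h i i.2 _, rfl⟩
  refine eq_top_iff.2 fun g _ => ?_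
  have h1 : (g : GL D.Idx F) ∈ ⁅D.group F, D.group F⁆ := key g.2
  rw [← Subgroup.map_subtype_commutator] at h1
  obtain ⟨g', hg', e⟩ := h1
  rwa [Subtype.ext e] at hg'

end Cfsg.Lib.Chev
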