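/-
Irreducibility of the (B,N)-pair and simplicity.
-/
import Cfsg.Agent.Lib.Chev.Perfect
import Cfsg.Agent.Lib.LieBN.Simple

set_option autoImplicit false

namespace Cfsg.Lib.Chev

open Cfsg.Lie
open scoped commutatorElement

variable {D : ChevalleyDatum} {A : Aux} (hc : Cert D A) {F : Type*} [Field F]

include hc in
theorem sig_not_commute {i j : Fin D.rank} (hne : i ≠ j) (hA : A.cA i (D.simple j) ≠ 0) :
    sig hc i * sig hc j ≠ sig hc j * sig hc i := by
  intro h
  have h1 := congrArg (fun π : Equiv.Perm (Fin D.nroots) => A.co i (π (sR hc j))) h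
  have hjn := simple_lt hc j.2
  have hne' : (i : ℕ) ≠ j := fun e => hne (Fin.ext e)
  simp only [Equiv.Perm.mul_apply, sig_simple, (isRootAut_sig hc i).neg] at h1
  have e1 : A.co i (nR (sig hc i (sR hc j)) : Fin D.nroots) = A.cA i (D.simple j) := by
    show A.co i (negI D (sig hc i (sR hc j) : Fin D.nroots)) = _
    rw [co_neg hc i.2 (sig hc i (sR hc j)).2]
    show -A.co i (A.w i (D.simple j)) = _
    rw [co_w hc i.2 i.2 hjn, if_pos rfl, co_simple hc j.2 i.2, if_neg hne']
    ring
  have e2 : A.co i (sig hc j (sig hc i (sR hc j)) : Fin D.nroots) = -A.cA i (D.simple j) := by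
    show A.co i (A.w j (A.w i (D.simple j))) = _
    rw [co_w hc j.2 i.2 (w_lt hc i.2 hjn), if_neg hne', sub_zero, co_w hc i.2 i.2 hjn, if_pos rfl,
      co_simple hc j.2 i.2, if_neg hne']
    ring
  rw [e1, e2] at h1
  omega

include hc in
/-- irreducibility from connectedness of the diagram -/
theorem bnPair_irreducible
    (z : ℕ) (hz : z < D.rank) (d : ℕ → ℕ)
    (hconn : ∀ j < D.rank, j ≠ z → ∃ i < D.rank, d i < d j ∧ A.cA i (D.simple j) ≠ 0) :
    (bnPair F hc).Irreducible := by
  classical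
  intro J hJ hJne hne
  by_contra hno
  push Not at hno
  let el : Fin D.rank → ↥(D.group F) := fun i => ⟨ng D F i, coe_mem_group_ng hc F i⟩
  have hel : ∀ i, el i ∈ (bnPair F hc).S := fun i => (mem_S_iff hc F).2 ⟨i, rfl⟩
  have hcomm : ∀ i j : Fin D.rank, el i ∈ J → el j ∉ J →
      sig hc i * sig hc j = sig hc j * sig hc i := by
    intro i j hi hj
    have h := hno _ hi _ ⟨hel j, hj⟩
    have hN := mul_mem (mul_mem (mul_mem (ng_mem_N (F := F) hc i) (ng_mem_N (F := F) hc j))
      (inv_mem (ng_mem_N (F := F) hc i))) (inv_mem (ng_mem_N (F := F) hc j))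
    have hH : ng D F i * ng D F j * (ng D F i)⁻¹ * (ng D F j)⁻¹ ∈ D.diagonalSubgroup F := by
      rw [← B_inf_N hc]; exact ⟨h, hN⟩
    have h2 := ((acts_H hc hH).mul ((acts_ng hc j).mul (acts_ng hc i)))
    rw [show ng D F i * ng D F j * (ng D F i)⁻¹ * (ng D F j)⁻¹ * (ng D F j * ng D F i) =
      ng D F i * ng D F j by group, one_mul] at h2
    exact ((acts_ng hc i).mul (acts_ng hc j)).unique hc h2
  have hstep : ∀ j : Fin D.rank, el j ∈ J ↔ el ⟨z, hz⟩ ∈ J := by
    intro j
    induction hm : d j using Nat.strong_induction_on generalizing j with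
    | _ n ih =>
      by_cases h0 : (j : ℕ) = z
      · rw [show j = ⟨z, hz⟩ from Fin.ext h0]
      · obtain ⟨k, hk, hd, hA⟩ := hconn j j.2 h0
        have hne' : (⟨k, hk⟩ : Fin D.rank) ≠ j := fun e => by rw [← e] at hd; exact lt_irrefl _ hd
        rw [← ih (d k) (hm ▸ hd) ⟨k, hk⟩ rfl]
        constructor
        · intro h1
          by_contra h2
          exact sig_not_commute hc hne' hA (hcomm _ _ h1 h2).symm
        · intro h1
          by_contra h2
          exact sig_not_commute hc hne' hA (hcomm _ _ h1 h2)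
  obtain ⟨s, hs⟩ := hJne
  obtain ⟨s', hs', hs'J⟩ := hne
  obtain ⟨a, ha⟩ := (mem_S_iff hc F).1 (hJ hs)
  obtain ⟨b, hb⟩ := (mem_S_iff hc F).1 hs'
  have ea : el a = s := Subtype.ext ha.symm
  have eb : el b = s' := Subtype.ext hb.symm
  rw [← ea] at hs
  rw [← eb] at hs'J
  exact hs'J ((hstep b).2 ((hstep a).1 hs))

include hc in
theorem isSimple_group (z : ℕ) (hz : z < D.rank) (d : ℕ → ℕ)
    (hconn : ∀ j < D.rank, j ≠ z → ∃ i < D.rank, d i < d j ∧ A.cA i (D.simple j) ≠ 0)
    (hr : 0 < D.rank) (hperf : commutator ↥(D.group F) = ⊤) :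
    IsSimpleGroup ↥(D.group F) ∧ ¬ IsMulCommutative ↥(D.group F) := by
  have hp := simple_lt hc hr
  haveI : Nontrivial ↥(D.group F) := by
    refine ⟨⟨⟨xg D F (D.simple 0) 1, xg_mem_group hc hp 1⟩, 1, fun h => ?_⟩⟩
    exact one_ne_zero ((xg_eq_one_iff hc hp (1 : F)).1 (congrArg Subtype.val h))
  have hsolv : Group.IsSolvable ↥(bnPair F hc).B := by
    haveI := borel_isSolvable hc F
    exact Group.isSolvable_of_isSolvable_injective
      (f := (Subgroup.subgroupOfEquivOfLe (B_le_group (F := F) hc)).toMonoidHom)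
      (Subgroup.subgroupOfEquivOfLe (B_le_group (F := F) hc)).injective
  refine ⟨LieBN.isSimpleGroup_of_bnPair (bnPair_irreducible hc z hz d hconn) hsolv hperf (normalCore_eq_bot hc F), ?_⟩
  intro h
  have : commutator ↥(D.group F) = ⊥ := by
    rw [commutator_def, Subgroup.commutator_eq_bot_iff_le_centralizer]
    intro a _
    rw [Subgroup.mem_centralizer_iff]
    exact fun b _ => h.is_comm.comm b a
  rw [hperf] at this
  exact bot_ne_top this.symm

end Cfsg.Lib.Chev
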