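/-
Perfectness and simplicity of the seven tabulated Chevalley groups.
-/
import Cfsg.Agent.Lib.Chev.All
import Cfsg.Agent.Lib.Chev.Simple

set_option autoImplicit false

namespace Cfsg.Lib.Chev

open Cfsg.Lie

/-- a commutator witness for the `i`-th fundamental root -/
def termOK (D : ChevalleyDatum) (i a b : ℕ) (c : ℤ) : Bool :=
  Nat.blt a D.nroots && Nat.blt b D.nroots && !(b == a) && !(b == negI D a) &&
    decide (D.commTerms a b = [(D.simple i, c, 1, 1)])

/-- all fundamental roots have witnesses with unit coefficient -/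
def termsOK (D : ChevalleyDatum) (L : List (ℕ × ℕ × ℤ)) : Bool :=
  Nat.beq L.length D.rank && allB D.rank fun i =>
    termOK D i (L.getD i (0, 0, 0)).1 (L.getD i (0, 0, 0)).2.1 (L.getD i (0, 0, 0)).2.2 &&
      Nat.beq (L.getD i (0, 0, 0)).2.2.natAbs 1

/-- connectedness of the diagram, from the first or from the last node -/
def connOK (D : ChevalleyDatum) (A : Aux) : Bool :=
  (allB D.rank fun j => (j == 0) || (List.range j).any fun i => decide (A.cA i (D.simple j) ≠ 0)) ||
    allB D.rank fun j => (j == D.rank - 1) ||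
      (List.range D.rank).any fun i => Nat.blt j i && decide (A.cA i (D.simple j) ≠ 0)

variable {D : ChevalleyDatum} {A : Aux} (hc : Cert D A) {F : Type*} [Field F]

theorem conn_of_ok (h : connOK D A = true) (hr : 0 < D.rank) :
    ∃ z < D.rank, ∃ d : ℕ → ℕ,
      ∀ j < D.rank, j ≠ z → ∃ i < D.rank, d i < d j ∧ A.cA i (D.simple j) ≠ 0 := by
  simp only [connOK, Bool.or_eq_true] at h
  rcases h with h | h
  · refine ⟨0, hr, id, fun j hj hne => ?_⟩
    obtain ⟨i, hi, hA⟩ : ∃ i < j, A.cA i (D.simple j) ≠ 0 := by simpa [hne] using allB_iff.1 h j hj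
    exact ⟨i, hi.trans hj, hi, hA⟩
  · refine ⟨D.rank - 1, by omega, fun j => D.rank - j, fun j hj hne => ?_⟩
    obtain ⟨i, hi, hji, hA⟩ : ∃ i < D.rank, j < i ∧ A.cA i (D.simple j) ≠ 0 := by
      simpa [hne] using allB_iff.1 h j hj
    exact ⟨i, hi, show D.rank - i < D.rank - j by omega, hA⟩

include hc in
theorem simple_of_conn (h : connOK D A = true) (hr : 0 < D.rank)
    (hperf : commutator ↥(D.group F) = ⊤) :
    IsSimpleGroup ↥(D.group F) ∧ ¬ IsMulCommutative ↥(D.group F) := by
  obtain ⟨z, hz, d, hd⟩ := conn_of_ok h hr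
  exact isSimple_group hc z hz d hd hr hperf

include hc in
theorem mem_comm_of_termOK {i a b : ℕ} {c : ℤ} (hi : i < D.rank) (h : termOK D i a b c = true)
    (hc0 : (c : F) ≠ 0) (s : F) :
    xg D F (D.simple i) s ∈ ⁅D.group F, D.group F⁆ := by
  simp only [termOK, Bool.and_eq_true, Nat.blt_eq, Bool.not_eq_true', beq_eq_false_iff_ne,
    decide_eq_true_eq] at h
  exact xg_mem_comm_of_term hc h.1.1.1.1 h.1.1.1.2 (simple_lt hc hi) h.1.1.2 h.1.2 h.2 hc0 s

theorem int_cast_unit {c : ℤ} (h : c.natAbs = 1) : (c : F) ≠ 0 := by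
  rcases Int.natAbs_eq c with e | e <;> rw [e, h] <;> simp

include hc in
theorem perfect_of_termsOK {L : List (ℕ × ℕ × ℤ)} (h : termsOK D L = true) :
    commutator ↥(D.group F) = ⊤ := by
  refine perfect_of_simple hc fun i hi s => ?_
  simp only [termsOK, Bool.and_eq_true, allB_iff, Nat.beq_eq] at h
  obtain ⟨h1, h2⟩ := h.2 i hi
  exact mem_comm_of_termOK hc hi h1 (int_cast_unit h2) s

/-- witnesses for `D₄` -/
def witD4 : List (ℕ × ℕ × ℤ) := [(6, 22, 1), (1, 23, -1), (3, 22, -1), (2, 22, -1)]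
/-- witnesses for `F₄` -/
def witF4 : List (ℕ × ℕ × ℤ) := [(7, 44, -1), (8, 40, -1), (2, 46, -1), (1, 47, -1)]
/-- witnesses for `E₆` -/
def witE6 : List (ℕ × ℕ × ℤ) := [(16, 66, 1), (1, 71, -1), (5, 69, -1), (2, 70, -1), (3, 69, -1), (4, 68, -1)]
/-- witnesses for `E₇` -/
def witE7 : List (ℕ × ℕ × ℤ) :=
  [(1, 125, -1), (7, 122, -1), (2, 124, -1), (3, 123, -1), (4, 122, -1), (5, 121, -1), (6, 120, -1)]
/-- witnesses for `E₈` -/
def witE8 : List (ℕ × ℕ × ℤ) :=
  [(14, 233, -1), (7, 234, -1), (6, 234, -1), (5, 235, -1), (4, 236, -1), (3, 237, -1), (2, 238, -1), (1, 239, -1)]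

theorem terms_D4 : termsOK chevD4 witD4 = true := by decide +kernel
theorem terms_F4 : termsOK chevF4 witF4 = true := by decide +kernel
theorem terms_E6 : termsOK chevE6 witE6 = true := by decide +kernel
theorem terms_E7 : termsOK chevE7 witE7 = true := by decide +kernel
theorem terms_E8 : termsOK chevE8 witE8 = true := by decide +kernel
theorem term_G2_1 : termOK chevG2 1 1 11 (-1) = true := by decide +kernel
theorem term_B2_1 : termOK chevB2 1 2 6 (-2) = true := by decide +kernel
theorem cA_G2_0 : auxG2.cA 1 (chevG2.simple 0) = -1 := by decide +kernel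
theorem cA_B2_0 : auxB2.cA 1 (chevB2.simple 0) = -1 := by decide +kernel
theorem cA_B2_1 : auxB2.cA 1 (chevB2.simple 1) = 2 := by decide +kernel
theorem conn_G2 : connOK chevG2 auxG2 = true := by decide +kernel
theorem conn_B2 : connOK chevB2 auxB2 = true := by decide +kernel
theorem conn_D4 : connOK chevD4 auxD4 = true := by decide +kernel
theorem conn_F4 : connOK chevF4 auxF4 = true := by decide +kernel
theorem conn_E6 : connOK chevE6 auxE6 = true := by decide +kernel
theorem conn_E7 : connOK chevE7 auxE7 = true := by decide +kernel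
theorem conn_E8 : connOK chevE8 auxE8 = true := by decide +kernel

theorem perfect_G2 (hF : ∃ a : F, a ≠ 0 ∧ a ≠ 1) : commutator ↥(chevG2.group F) = ⊤ := by
  obtain ⟨a, ha, ha1⟩ := hF
  refine perfect_of_simple certG2 fun i hi s => ?_
  have : chevG2.rank = 2 := rfl
  rcases (show i = 0 ∨ i = 1 by omega) with rfl | rfl
  · refine xg_mem_comm_of_torus certG2 (show 1 < chevG2.rank by omega) (simple_lt certG2 hi) (Units.mk0 a ha) ?_ s
    rw [cA_G2_0]
    simpa [inv_eq_one] using ha1
  · exact mem_comm_of_termOK certG2 hi term_G2_1 (by simp) s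

theorem perfect_B2 (hF : ∃ a : F, a ≠ 0 ∧ a ≠ 1) : commutator ↥(chevB2.group F) = ⊤ := by
  obtain ⟨a, ha, ha1⟩ := hF
  refine perfect_of_simple certB2 fun i hi s => ?_
  have : chevB2.rank = 2 := rfl
  rcases (show i = 0 ∨ i = 1 by omega) with rfl | rfl
  · refine xg_mem_comm_of_torus certB2 (show 1 < chevB2.rank by omega) (simple_lt certB2 hi) (Units.mk0 a ha) ?_ s
    rw [cA_B2_0]
    simpa [inv_eq_one] using ha1
  · by_cases h2 : (2 : F) = 0
    · refine xg_mem_comm_of_torus certB2 (show 1 < chevB2.rank by omega) (simple_lt certB2 hi) (Units.mk0 a ha) ?_ s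
      rw [cA_B2_1]
      intro h
      apply ha1
      have h' : a ^ 2 = 1 := by simpa [Units.val_zpow_eq_zpow_val] using h
      have : (a - 1) * (a - 1) = 0 := by
        calc (a - 1) * (a - 1) = a ^ 2 - 1 - 2 * (a - 1) := by ring
          _ = 0 := by rw [h', h2]; ring
      exact sub_eq_zero.1 (mul_self_eq_zero.1 this)
    · exact mem_comm_of_termOK certB2 hi term_B2_1 (by simpa using h2) s

theorem perfect_of_mem (D : ChevalleyDatum) (hD : D ∈ [chevG2, chevB2, chevD4, chevF4, chevE6, chevE7, chevE8])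
    (h2 : D = chevG2 ∨ D = chevB2 → ∃ a : F, a ≠ 0 ∧ a ≠ 1) : commutator ↥(D.group F) = ⊤ := by
  simp only [List.mem_cons, List.not_mem_nil, or_false] at hD
  rcases hD with rfl | rfl | rfl | rfl | rfl | rfl | rfl
  exacts [perfect_G2 (h2 (Or.inl rfl)), perfect_B2 (h2 (Or.inr rfl)), perfect_of_termsOK certD4 terms_D4,
    perfect_of_termsOK certF4 terms_F4, perfect_of_termsOK certE6 terms_E6, perfect_of_termsOK certE7 terms_E7,
    perfect_of_termsOK certE8 terms_E8]

end Cfsg.Lib.Chev
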