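import Cfsg.Agent.Lib.Chev.WeylCentre

/-! Centres and small generating sets of the seven Weyl groups. -/

set_option autoImplicit false
set_option maxRecDepth 100000

namespace Cfsg.Lib.Chev.WeylCentre

open Cfsg.Lie Cfsg.Lib.Chev

theorem weyl_centre (c : (Σ n : ℕ, CoxeterMatrix (Fin n)) × ℕ)
    (hc : c ∈ [(⟨2, CoxeterMatrix.B 2⟩, 2), (⟨2, CoxeterMatrix.G₂⟩, 2), (⟨4, coxeterD4⟩, 2), (⟨4, CoxeterMatrix.F₄⟩, 2),
      (⟨6, CoxeterMatrix.E₆⟩, 1), (⟨7, CoxeterMatrix.E₇⟩, 2), (⟨8, CoxeterMatrix.E₈⟩, 2)]) :
    Nat.card (Subgroup.center c.1.2.Group) = c.2 ∧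
      Subgroup.center c.1.2.Group ≤ Subgroup.zpowers ((List.finRange c.1.1).map c.1.2.simple).prod := by
  simp only [List.mem_cons, List.not_mem_nil, or_false] at hc
  rcases hc with rfl | rfl | rfl | rfl | rfl | rfl | rfl
  · exact centre_two certB2 _ ord_B2 (by decide +kernel) (L := [1]) (j₀ := 0) (by decide) (by decide +kernel)
      (by decide +kernel) 2 (by decide +kernel)
  · exact centre_two certG2 _ ord_G2 (by decide +kernel) (L := [1]) (j₀ := 0) (by decide) (by decide +kernel)
      (by decide +kernel) 3 (by decide +kernel)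
  · exact centre_two certD4 _ ord_D4 (by decide +kernel) (L := [1, 2, 3]) (j₀ := 0) (by decide) (by decide +kernel)
      (by decide +kernel) 3 (by decide +kernel)
  · exact centre_two certF4 _ ord_F4 (by decide +kernel) (L := [1, 2, 3]) (j₀ := 0) (by decide) (by decide +kernel)
      (by decide +kernel) 6 (by decide +kernel)
  · exact centre_one certE6 _ ord_E6 (by decide +kernel) (L := [2, 3, 1, 4, 5]) (j₀ := 0) (by decide)
      (by decide +kernel) (by decide +kernel)
      [0, 1, 2, 0, 3, 1, 2, 0, 3, 2, 4, 3, 1, 2, 0, 3, 2, 4, 3, 1, 5, 4, 3, 1, 2, 0, 3, 2, 4, 3, 1, 5, 4, 3, 2, 0]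
      (by decide +kernel) (by decide +kernel) (by decide +kernel)
  · exact centre_two certE7 _ ord_E7 (by decide +kernel) (L := [2, 3, 1, 4, 5, 6]) (j₀ := 0) (by decide)
      (by decide +kernel) (by decide +kernel) 9 (by decide +kernel)
  · exact centre_two certE8 _ ord_E8 (by decide +kernel) (L := [2, 3, 1, 4, 5, 6, 7]) (j₀ := 0) (by decide)
      (by decide +kernel) (by decide +kernel) 15 (by decide +kernel)

/-- certificate for B2 -/
def closSB2 : List (Option (List ℕ × ℕ) × ℕ) :=
  [(none, 5), (none, 6), (none, 2)]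

/-- certificate for G2 -/
def closSG2 : List (Option (List ℕ × ℕ) × ℕ) :=
  [(none, 7), (none, 9), (none, 8), (none, 4), (none, 2)]

/-- certificate for D4 -/
def closSD4 : List (Option (List ℕ × ℕ) × ℕ) :=
  [(none, 18), (none, 13), (none, 2), (none, 14), (none, 22), (none, 8), (none, 10), (none, 5), (none, 9), (none, 21)]

/-- certificate for F4 -/
def closSF4 : List (Option (List ℕ × ℕ) × ℕ) :=
  [(none, 33), (none, 25), (none, 24), (none, 27), (none, 35), (none, 5), (none, 17), (none, 38), (none, 28), (none, 4), (none, 16), (none, 36), (none, 14), (none, 22), (none, 23), (none, 20), (none, 12), (none, 42), (none, 30), (none, 9), (none, 19), (none, 43)]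

/-- certificate for E6 -/
def closSE6 : List (Option (List ℕ × ℕ) × ℕ) :=
  [(none, 56), (none, 42), (none, 47), (none, 59), (none, 52), (none, 39), (none, 37), (none, 36), (none, 8), (none, 28), (none, 23)]

/-- certificate for E7 -/
def closSE7 : List (Option (List ℕ × ℕ) × ℕ) :=
  [(none, 69), (none, 66), (none, 64), (none, 63), (none, 23), (none, 51), (none, 45), (none, 28), (none, 39), (none, 56), (none, 59), (none, 61), (none, 62), (none, 102), (none, 74), (none, 80), (none, 97), (some ([1, 2, 3, 4, 5], 6), 97), (none, 114), (none, 89), (none, 70), (none, 67), (none, 65), (none, 24), (none, 14), (none, 38), (none, 19), (none, 11), (none, 36), (none, 55), (none, 58), (none, 60), (none, 101), (none, 111), (none, 87), (some ([0, 4, 3, 1, 2, 3, 4], 5), 111), (none, 125), (none, 124), (none, 123), (none, 118), (none, 92), (none, 72), (none, 26), (none, 16), (none, 6), (none, 0), (none, 1), (none, 2), (none, 7), (none, 33), (none, 53), (none, 99), (none, 109), (some ([1, 3, 2, 0, 4, 3, 1, 2, 3, 4], 5), 109),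 (none, 44), (none, 27), (none, 93), (none, 73), (none, 79), (none, 96), (none, 85), (none, 105), (none, 75), (none, 81), (none, 98), (none, 32), (none, 52), (none, 46), (none, 29), (none, 40), (none, 20)]

/-- certificate for E8 -/
def closSE8 : List (Option (List ℕ × ℕ) × ℕ) :=
  [(none, 130), (none, 126), (none, 123), (none, 121), (none, 120), (none, 66), (none, 103), (none, 96), (none, 73), (none, 89), (none, 62), (none, 102), (none, 95), (none, 72), (none, 88), (none, 109), (none, 113), (none, 116), (none, 118), (none, 119), (none, 173), (none, 136), (none, 143), (none, 166), (none, 150), (none, 177), (none, 137), (none, 144), (none, 167), (some ([1, 2, 3, 4, 5, 6], 7), 167), (none, 193), (none, 155), (none, 131), (none, 127), (none, 124), (none, 122), (none, 67), (none, 52), (none, 87), (none, 61), (none, 48), (none, 30), (none, 43), (none, 83), (none, 58), (none, 46), (none, 84), (none, 108), (none, 112), (none, 115), (none, 117), (none, 172), (none, 187), (none, 152), (none, 178), (none, 191), (none,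 209), (none, 196), (none, 156), (some ([0, 5, 4, 3, 1, 2, 3, 4, 5], 6), 196), (none, 231), (none, 223), (none, 217), (none, 202), (none, 160), (none, 133), (none, 129), (none, 69), (none, 54), (none, 34), (none, 12), (none, 20), (none, 6), (none, 7), (none, 14), (none, 8), (none, 16), (none, 22), (none, 37), (none, 79), (none, 106), (none, 110), (none, 170), (none, 185), (none, 205), (none, 227), (none, 219), (none, 233), (none, 232), (some ([1, 3, 2, 4, 3, 1, 5, 4, 3, 2, 0, 6, 5, 4, 3, 1, 2, 3, 4, 5, 6], 7), 233), (none, 162), (none, 135), (none, 142), (none, 165), (none, 149), (none, 176), (none, 190), (none, 153), (none, 179), (none, 192), (none, 154), (none, 180), (none, 138), (none, 145), (none, 168), (none, 77), (none, 104), (none, 97), (none, 74), (none, 90), (none, 63), (none, 49), (none, 86), (none, 60), (none, 47), (none, 85), (none, 59), (none, 101), (none, 94)]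

theorem weyl_two_gen (c : (Σ n : ℕ, CoxeterMatrix (Fin n)) × ℕ)
    (hc : c ∈ [(⟨2, CoxeterMatrix.B 2⟩, 1), (⟨2, CoxeterMatrix.G₂⟩, 1), (⟨4, coxeterD4⟩, 2), (⟨4, CoxeterMatrix.F₄⟩, 2),
      (⟨6, CoxeterMatrix.E₆⟩, 1), (⟨7, CoxeterMatrix.E₇⟩, 1), (⟨8, CoxeterMatrix.E₈⟩, 1)]) :
    ∃ T : Finset c.1.2.Group, T.card = c.2 ∧ (∀ t ∈ T, ∃ (g : c.1.2.Group) (i : Fin c.1.1), t = g * c.1.2.simple i * g⁻¹) ∧
      Subgroup.closure (({((List.finRange c.1.1).map c.1.2.simple).prod} : Set c.1.2.Group) ∪ ↑T) = ⊤ := by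
  simp only [List.mem_cons, List.not_mem_nil, or_false] at hc
  rcases hc with rfl | rfl | rfl | rfl | rfl | rfl | rfl
  · exact gen_coxeter certB2 _ ord_B2 {(⟨0, by decide⟩ : Fin chevB2.rank)} ⟨1, by decide⟩ [0]
      (by decide) closSB2 (by decide +kernel)
  · exact gen_coxeter certG2 _ ord_G2 {(⟨0, by decide⟩ : Fin chevG2.rank)} ⟨1, by decide⟩ [0]
      (by decide) closSG2 (by decide +kernel)
  · exact gen_coxeter certD4 _ ord_D4 {(⟨0, by decide⟩ : Fin chevD4.rank), (⟨2, by decide⟩ : Fin 4)} ⟨3, by decide⟩ [0, 2]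
      (by decide) closSD4 (by decide +kernel)
  · exact gen_coxeter certF4 _ ord_F4 {(⟨0, by decide⟩ : Fin chevF4.rank), (⟨2, by decide⟩ : Fin 4)} ⟨3, by decide⟩ [0, 2]
      (by decide) closSF4 (by decide +kernel)
  · exact gen_coxeter certE6 _ ord_E6 {(⟨0, by decide⟩ : Fin chevE6.rank)} ⟨1, by decide⟩ [0]
      (by decide) closSE6 (by decide +kernel)
  · exact gen_coxeter certE7 _ ord_E7 {(⟨3, by decide⟩ : Fin chevE7.rank)} ⟨1, by decide⟩ [3]
      (by decide) closSE7 (by decide +kernel)
  · exact gen_coxeter certE8 _ ord_E8 {(⟨3, by decide⟩ : Fin chevE8.rank)} ⟨1, by decide⟩ [3]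
      (by decide) closSE8 (by decide +kernel)

end Cfsg.Lib.Chev.WeylCentre
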